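import Cfsg.Agent.E6Cubic.CertDefs

/-!
Kernel-checked commutator certificates for roots 48 to 71.
-/

set_option autoImplicit false

namespace CfsgLib.E6Cubic

set_option maxRecDepth 20000 in
theorem pair_ok2 : ∀ r < 24, ∀ s < 72, chkPair (r + 48) s = true := by decide +kernel

end CfsgLib.E6Cubic
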