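import Cfsg.Agent.E6Cubic.Sparse
import Cfsg.Prelude.Def_ChevE6
import Cfsg.Prelude.Def_Steinberg
import Cfsg.Agent.E6Cubic.Data

/-!
Kernel-checked certificates for the 72 sparse root matrices on 27 coordinates.
-/

set_option autoImplicit false

namespace CfsgLib.E6Cubic

open Cfsg.Lie

/-- The commutator table entry as a sparse matrix. -/
def commRhs (r s : ℕ) : Option (List (Ent (Fin 27))) :=
  match chevE6.commTerms r s with
  | [] => some []
  | [(z, C, 1, 1)] => if z < 72 then some (scl C (ents z)) else none
  | _ => none

/-- The certificate of a pair of roots. -/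
def chkPair (r s : ℕ) : Bool :=
  decide (s = r) || decide (s = chevE6.neg r) ||
    match commRhs r s with
    | some m => eqL (cmp (ents r) (ents s) ++ scl (-1) (cmp (ents s) (ents r))) m &&
        eqL (cmp (ents r) (cmp (ents s) (ents r))) []
    | none => false

set_option maxRecDepth 20000 in
theorem sq_ok : ∀ r < 72, eqL (cmp (ents r) (ents r)) [] = true := by decide +kernel

set_option maxRecDepth 20000 in
theorem neg_ok : ∀ r < 72, chevE6.neg r < 72 ∧ chevE6.neg (chevE6.neg r) = r ∧
    eqL (cmp (ents r) (cmp (ents (chevE6.neg r)) (ents r))) (ents r) = true := by decide +kernel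

end CfsgLib.E6Cubic
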