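import Cfsg.Agent.E6Cubic.Cert0
import Cfsg.Agent.E6Cubic.Cert1
import Cfsg.Agent.E6Cubic.Cert2

/-!
The commutator certificates for all pairs of roots.
-/

set_option autoImplicit false

namespace CfsgLib.E6Cubic

theorem pair_ok (r : ℕ) (hr : r < 72) (s : ℕ) (hs : s < 72) : chkPair r s = true := by
  rcases lt_or_ge r 24 with h | h
  · simpa using pair_ok0 r h s hs
  rcases lt_or_ge r 48 with h' | h'
  · have := pair_ok1 (r - 24) (by omega) s hs
    rwa [Nat.sub_add_cancel h] at this
  · have := pair_ok2 (r - 48) (by omega) s hs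
    rwa [Nat.sub_add_cancel h'] at this

end CfsgLib.E6Cubic
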