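import Cfsg.Agent.E6Cubic.Data
import Mathlib.Algebra.Module.Equiv.Basic
import Mathlib.Algebra.Field.Basic
import Mathlib.LinearAlgebra.Pi
import Mathlib.Tactic.Ring
import Mathlib.Tactic.LinearCombination
import Mathlib.Data.Fintype.Card

/-!
The cubic form in 27 variables, its polarisations, and its isometries.
-/

set_option autoImplicit false

namespace CfsgLib.E6Cubic

variable {F : Type*} [Field F]

/-- A monomial. -/
abbrev Mon := Fin 27 × Fin 27 × Fin 27 × ℤ

/-- The value of a monomial. -/
def mT (t : Mon) (v : Fin 27 → F) : F := (t.2.2.2 : F) * (v t.1 * v t.2.1 * v t.2.2.1)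

/-- The derivative of a monomial. -/
def mQ (t : Mon) (v z : Fin 27 → F) : F :=
  (t.2.2.2 : F) * (z t.1 * v t.2.1 * v t.2.2.1 + v t.1 * z t.2.1 * v t.2.2.1 + v t.1 * v t.2.1 * z t.2.2.1)

/-- The cubic form. -/
def cub (v : Fin 27 → F) : F := (tri.map fun t => mT t v).sum

/-- Its derivative. -/
def qua (v z : Fin 27 → F) : F := (tri.map fun t => mQ t v z).sum

/-- Its full polarisation. -/
def tln (u v z : Fin 27 → F) : F := qua (u + v) z - qua u z - qua v z

theorem sum_map_add_smul (l : List Mon) (v z : Fin 27 → F) (s : F) :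
    (l.map fun t => mT t (v + s • z)).sum = (l.map fun t => mT t v).sum + s * (l.map fun t => mQ t v z).sum +
      s ^ 2 * (l.map fun t => mQ t z v).sum + s ^ 3 * (l.map fun t => mT t z).sum := by
  induction l with
  | nil => simp
  | cons t l ih =>
    simp only [List.map_cons, List.sum_cons, ih]
    simp only [mT, mQ, Pi.add_apply, Pi.smul_apply, smul_eq_mul]
    ring

theorem cub_add_smul (v z : Fin 27 → F) (s : F) :
    cub (v + s • z) = cub v + s * qua v z + s ^ 2 * qua z v + s ^ 3 * cub z :=
  sum_map_add_smul tri v z s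

variable (F) in
/-- The isometries of the cubic form. -/
def Isom : Subgroup ((Fin 27 → F) ≃ₗ[F] (Fin 27 → F)) where
  carrier := {g | ∀ v, cub (g v) = cub v}
  mul_mem' {g h} hg hh v := (hg (h v)).trans (hh v)
  one_mem' _ := rfl
  inv_mem' {g} hg v := by
    have h := hg (g⁻¹ v)
    rw [show g (g⁻¹ v) = v from g.apply_symm_apply v] at h
    exact h.symm

theorem mem_Isom {g : (Fin 27 → F) ≃ₗ[F] (Fin 27 → F)} : g ∈ Isom F ↔ ∀ v, cub (g v) = cub v := Iff.rfl

theorem exists_scalar [Fintype F] (h3 : 3 ≤ Fintype.card F) : ∃ c : F, c ≠ 0 ∧ c ≠ 1 := by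
  classical
  by_contra h
  push Not at h
  have : (Finset.univ : Finset F) ⊆ {0, 1} := fun c _ => by
    by_cases hc : c = 0
    · simp [hc]
    · simp [h c hc]
  have := (Finset.card_le_card this).trans Finset.card_le_two
  rw [Finset.card_univ] at this
  omega

theorem qua_map [Fintype F] (h3 : 3 ≤ Fintype.card F) {g : (Fin 27 → F) ≃ₗ[F] (Fin 27 → F)} (hg : g ∈ Isom F)
    (v z : Fin 27 → F) : qua (g v) (g z) = qua v z := by
  obtain ⟨c, hc0, hc1⟩ := exists_scalar h3
  have key : ∀ s : F, s * (qua (g v) (g z) - qua v z) + s ^ 2 * (qua (g z) (g v) - qua z v) = 0 := fun s => by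
    have h := hg (v + s • z)
    rw [map_add, map_smul, cub_add_smul, cub_add_smul, hg v, hg z] at h
    linear_combination h
  have h1 := key 1
  have hc := key c
  have : c * ((c - 1) * (qua (g v) (g z) - qua v z)) = 0 := by linear_combination c ^ 2 * h1 - hc
  simpa [hc0, sub_eq_zero, hc1] using this

theorem tln_map [Fintype F] (h3 : 3 ≤ Fintype.card F) {g : (Fin 27 → F) ≃ₗ[F] (Fin 27 → F)} (hg : g ∈ Isom F)
    (u v z : Fin 27 → F) : tln (g u) (g v) (g z) = tln u v z := by
  simp only [tln, ← map_add, qua_map h3 hg]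

theorem tln_symm (u v z : Fin 27 → F) : tln u v z = tln v u z := by
  simp only [tln, add_comm u v]; ring

theorem tln_smul_left (c : F) (u v z : Fin 27 → F) : tln (c • u) v z = c * tln u v z := by
  simp only [tln, qua]
  generalize tri = l
  induction l with
  | nil => simp
  | cons t l ih =>
    simp only [List.map_cons, List.sum_cons] at ih ⊢
    simp only [mQ, Pi.add_apply, Pi.smul_apply, smul_eq_mul] at ih ⊢
    linear_combination ih

theorem tln_smul_mid (c : F) (u v z : Fin 27 → F) : tln u (c • v) z = c * tln u v z := by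
  rw [tln_symm, tln_smul_left, tln_symm]

theorem tln_smul_right (c : F) (u v z : Fin 27 → F) : tln u v (c • z) = c * tln u v z := by
  simp only [tln, qua]
  generalize tri = l
  induction l with
  | nil => simp
  | cons t l ih =>
    simp only [List.map_cons, List.sum_cons] at ih ⊢
    simp only [mQ, Pi.add_apply, Pi.smul_apply, smul_eq_mul] at ih ⊢
    linear_combination ih

/-- The pairs completing a point to a monomial. -/
def compl (k : Fin 27) : List (Fin 27 × Fin 27 × ℤ) :=
  tri.flatMap fun t =>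
    (if t.1 = k then [(t.2.1, t.2.2.1, t.2.2.2)] else []) ++ (if t.2.1 = k then [(t.1, t.2.2.1, t.2.2.2)] else []) ++
      (if t.2.2.1 = k then [(t.1, t.2.1, t.2.2.2)] else [])

theorem qua_single (v : Fin 27 → F) (k : Fin 27) :
    qua v (Pi.single k 1) = ((compl k).map fun p => (p.2.2 : F) * (v p.1 * v p.2.1)).sum := by
  simp only [qua, compl]
  generalize tri = l
  induction l with
  | nil => simp
  | cons t l ih =>
    simp only [List.map_cons, List.sum_cons, List.flatMap_cons, List.map_append, List.sum_append, ih]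
    congr 1
    simp only [mQ, Pi.single_apply]
    split_ifs <;> simp <;> ring

theorem tln_single (u v : Fin 27 → F) (k : Fin 27) :
    tln u v (Pi.single k 1) = ((compl k).map fun p => (p.2.2 : F) * (u p.1 * v p.2.1 + u p.2.1 * v p.1)).sum := by
  simp only [tln, qua_single]
  generalize compl k = l
  induction l with
  | nil => simp
  | cons p l ih =>
    simp only [List.map_cons, List.sum_cons, Pi.add_apply] at ih ⊢
    linear_combination ih

theorem sum_eq_zero_of {α : Type*} (l : List α) (f : α → F) (h : ∀ x ∈ l, f x = 0) : (l.map f).sum = 0 := by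
  induction l with
  | nil => simp
  | cons x l ih =>
    rw [List.map_cons, List.sum_cons, h x List.mem_cons_self, zero_add,
      ih fun y hy => h y (List.mem_cons_of_mem _ hy)]

theorem sum_eq_one_of {α : Type*} [DecidableEq α] (l : List α) (hl : l.Nodup) (f : α → F) (a : α) (ha : a ∈ l)
    (h : ∀ x ∈ l, x ≠ a → f x = 0) : (l.map f).sum = f a := by
  induction l with
  | nil => simp at ha
  | cons x l ih =>
    rw [List.nodup_cons] at hl
    rw [List.map_cons, List.sum_cons]
    rcases List.mem_cons.1 ha with rfl | ha'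
    · rw [sum_eq_zero_of l f fun y hy => h y (List.mem_cons_of_mem _ hy) fun e => hl.1 (e ▸ hy), add_zero]
    · rw [h x List.mem_cons_self (fun e => hl.1 (e ▸ ha')), zero_add,
        ih hl.2 ha' fun y hy hne => h y (List.mem_cons_of_mem _ hy) hne]

/-- A singular point satisfies all the quadratic equations. -/
theorem qua_image [Fintype F] (h3 : 3 ≤ Fintype.card F) {g : (Fin 27 → F) ≃ₗ[F] (Fin 27 → F)} (hg : g ∈ Isom F)
    {v : Fin 27 → F} (hv : ∀ z, qua v z = 0) (z : Fin 27 → F) : qua (g v) z = 0 := by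
  rw [← g.apply_symm_apply z, qua_map h3 hg, hv]

theorem tln_image [Fintype F] (h3 : 3 ≤ Fintype.card F) {g : (Fin 27 → F) ≃ₗ[F] (Fin 27 → F)} (hg : g ∈ Isom F)
    {u v : Fin 27 → F} (huv : ∀ z, tln u v z = 0) (z : Fin 27 → F) : tln (g u) (g v) z = 0 := by
  rw [← g.apply_symm_apply z, tln_map h3 hg, huv]

theorem qua_single_single (i : Fin 27) (h : ∀ t ∈ tri, t.1 ≠ t.2.1 ∧ t.1 ≠ t.2.2.1 ∧ t.2.1 ≠ t.2.2.1)
    (z : Fin 27 → F) : qua (Pi.single i 1) z = 0 := by
  refine sum_eq_zero_of _ _ fun t ht => ?_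
  obtain ⟨h1, h2, h3⟩ := h t ht
  simp only [mQ, Pi.single_apply]
  split_ifs <;> simp_all

end CfsgLib.E6Cubic
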