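import Cfsg.Agent.E6Cubic.Invariant

/-!
Incidences of the 27 points: Boolean certificates and what they mean for an isometry of the cubic form.
-/

set_option autoImplicit false

namespace CfsgLib.E6Cubic

/-- The two points lie in a common monomial. -/
def ctr (i j : Fin 27) : Bool :=
  decide (i ≠ j) &&
    tri.any fun t => (decide (t.1 = i) || decide (t.2.1 = i) || decide (t.2.2.1 = i)) &&
      (decide (t.1 = j) || decide (t.2.1 = j) || decide (t.2.2.1 = j))

/-- Candidates for the third point. -/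
def thirds (p q : Fin 27) : List (Fin 27) :=
  tri.flatMap fun t =>
    (if (t.1 = p ∧ t.2.1 = q) ∨ (t.1 = q ∧ t.2.1 = p) then [t.2.2.1] else []) ++
      (if (t.1 = p ∧ t.2.2.1 = q) ∨ (t.1 = q ∧ t.2.2.1 = p) then [t.2.1] else []) ++
        (if (t.2.1 = p ∧ t.2.2.1 = q) ∨ (t.2.1 = q ∧ t.2.2.1 = p) then [t.1] else [])

/-- A pair is the given one, up to order. -/
def isPair (p q : Fin 27) (x : Fin 27 × Fin 27 × ℤ) : Bool :=
  (decide (x.1 = p) && decide (x.2.1 = q)) || (decide (x.1 = q) && decide (x.2.1 = p))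

/-- A product of coordinates is the wanted one or vanishes on the given supports. -/
def okOr (Su Sv : List (Fin 27)) (p q a b : Fin 27) : Bool :=
  (decide (a = p) && decide (b = q)) || decide (a ∉ Su) || decide (b ∉ Sv)

/-- One coefficient of the polarisation isolates a product. -/
def relOK (Su Sv : List (Fin 27)) (p q : Fin 27) : Bool :=
  (thirds p q).any fun n => (compl n).any (isPair p q) &&
    (compl n).all fun x => okOr Su Sv p q x.1 x.2.1 && okOr Su Sv p q x.2.1 x.1

/-- One quadratic equation isolates a product. -/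
def qOK (S : List (Fin 27)) (p q : Fin 27) : Bool :=
  (thirds p q).any fun n => (compl n).any (isPair p q) &&
    (compl n).all fun x => isPair p q x || decide (x.1 ∉ S) || decide (x.2.1 ∉ S)

/-- The points collinear to all the given ones, with these. -/
def allowed (P : List (Fin 27)) : List (Fin 27) := (List.finRange 27).filter fun m => P.all fun s => !ctr s m

/-- Those of the given points collinear or equal to a point. -/
def colP (P : List (Fin 27)) (i : Fin 27) : List (Fin 27) := P.filter fun s => !ctr s i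

theorem tri_ok : ∀ t ∈ tri, t.1 ≠ t.2.1 ∧ t.1 ≠ t.2.2.1 ∧ t.2.1 ≠ t.2.2.1 := by decide +kernel

theorem compl_ok : ∀ n : Fin 27, (compl n).Nodup ∧ (∀ x ∈ compl n, x.1 ≠ x.2.1 ∧ x.2.2 * x.2.2 = 1) ∧
    ∀ x ∈ compl n, ∀ y ∈ compl n, x ≠ y → x.1 ≠ y.1 ∧ x.1 ≠ y.2.1 := by decide +kernel

set_option maxRecDepth 20000 in
theorem ctr_ok : ∀ s m : Fin 27, ctr s m = true → relOK [s] (List.finRange 27) s m = true := by decide +kernel

variable {F : Type*} [Field F]

/-- A coordinate vector. -/
def bv (i : Fin 27) : Fin 27 → F := Pi.single i 1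

theorem bv_same (i : Fin 27) : (bv i : Fin 27 → F) i = 1 := Pi.single_eq_same i 1

theorem bv_ne {i j : Fin 27} (h : j ≠ i) : (bv i : Fin 27 → F) j = 0 := Pi.single_eq_of_ne h 1

theorem sign_ne {n : Fin 27} {x : Fin 27 × Fin 27 × ℤ} (hx : x ∈ compl n) : ((x.2.2 : ℤ) : F) ≠ 0 := by
  intro h
  have := congrArg (fun k : ℤ => (k : F)) ((compl_ok n).2.1 x hx).2
  simp [h] at this

theorem isPair_eq {p q : Fin 27} {n : Fin 27} {x y : Fin 27 × Fin 27 × ℤ} (hx : x ∈ compl n) (hy : y ∈ compl n)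
    (hxp : isPair p q x = true) (hyp : isPair p q y = true) : x = y := by
  by_contra hne
  obtain ⟨h1, h2⟩ := (compl_ok n).2.2 x hx y hy hne
  simp only [isPair, Bool.or_eq_true, Bool.and_eq_true, decide_eq_true_eq] at hxp hyp
  rcases hxp with ⟨a, b⟩ | ⟨a, b⟩ <;> rcases hyp with ⟨c, d⟩ | ⟨c, d⟩ <;> simp_all

theorem relKill {Su Sv : List (Fin 27)} {p q : Fin 27} (h : relOK Su Sv p q = true) {u v : Fin 27 → F}
    (hu : ∀ j ∉ Su, u j = 0) (hv : ∀ j ∉ Sv, v j = 0) (hp : u p ≠ 0) (huv : ∀ z, tln u v z = 0) : v q = 0 := by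
  obtain ⟨n, -, h⟩ := List.any_eq_true.1 h
  rw [Bool.and_eq_true, List.any_eq_true, List.all_eq_true] at h
  obtain ⟨⟨x, hx, hxp⟩, hall⟩ := h
  have vanish : ∀ y ∈ compl n, ∀ a b : Fin 27, okOr Su Sv p q a b = true → ¬ (a = p ∧ b = q) → u a * v b = 0 := by
    intro y _ a b hab hne
    simp only [okOr, Bool.or_eq_true, Bool.and_eq_true, decide_eq_true_eq] at hab
    rcases hab with (h' | h') | h'
    · exact absurd h' hne
    · rw [hu a h', zero_mul]
    · rw [hv b h', mul_zero]
  have key := huv (bv n)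
  rw [bv, tln_single, sum_eq_one_of _ (compl_ok n).1 _ x hx ?_] at key
  · have hxa := (Bool.and_eq_true _ _).mp (hall x hx)
    have hne := ((compl_ok n).2.1 x hx).1
    simp only [isPair, Bool.or_eq_true, Bool.and_eq_true, decide_eq_true_eq] at hxp
    rcases hxp with ⟨h1, h2⟩ | ⟨h1, h2⟩
    · rw [vanish x hx x.2.1 x.1 hxa.2 (fun e => hne (h1.trans e.1.symm)), add_zero, h1, h2] at key
      simpa [sign_ne hx, hp] using key
    · rw [vanish x hx x.1 x.2.1 hxa.1 (fun e => hne (e.1.trans h2.symm)), zero_add, h1, h2] at key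
      simpa [sign_ne hx, hp] using key
  · intro y hy hyx
    have hya := (Bool.and_eq_true _ _).mp (hall y hy)
    have hnp : ¬ isPair p q y = true := fun h' => hyx (isPair_eq hy hx h' hxp)
    simp only [isPair, Bool.or_eq_true, Bool.and_eq_true, decide_eq_true_eq] at hnp
    rw [vanish y hy y.1 y.2.1 hya.1 (fun e => hnp (Or.inl e)),
      vanish y hy y.2.1 y.1 hya.2 (fun e => hnp (Or.inr ⟨e.2, e.1⟩)), add_zero, mul_zero]

theorem quadKill {S : List (Fin 27)} {p q : Fin 27} (h : qOK S p q = true) {w : Fin 27 → F}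
    (hw : ∀ j ∉ S, w j = 0) (hp : w p ≠ 0) (hq : ∀ z, qua w z = 0) : w q = 0 := by
  obtain ⟨n, -, h⟩ := List.any_eq_true.1 h
  rw [Bool.and_eq_true, List.any_eq_true, List.all_eq_true] at h
  obtain ⟨⟨x, hx, hxp⟩, hall⟩ := h
  have key := hq (bv n)
  rw [bv, qua_single, sum_eq_one_of _ (compl_ok n).1 _ x hx ?_] at key
  · simp only [isPair, Bool.or_eq_true, Bool.and_eq_true, decide_eq_true_eq] at hxp
    rcases hxp with ⟨h1, h2⟩ | ⟨h1, h2⟩ <;> rw [h1, h2] at key <;> simpa [sign_ne hx, hp] using key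
  · intro y hy hyx
    have hya := hall y hy
    have hnp : ¬ isPair p q y = true := fun h' => hyx (isPair_eq hy hx h' hxp)
    simp only [Bool.or_eq_true, decide_eq_true_eq] at hya
    rcases hya with (h' | h') | h'
    · exact absurd h' hnp
    · rw [hw _ h', zero_mul, mul_zero]
    · rw [hw _ h', mul_zero, mul_zero]

theorem tln_bv {i j : Fin 27} (h : ctr i j = false) (z : Fin 27 → F) : tln (bv i) (bv j) z = 0 := by
  have key : ∀ t ∈ tri, mQ t (bv i + bv j) z - mQ t (bv i) z - mQ t (bv j) z = 0 := by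
    intro t ht
    obtain ⟨h1, h2, h3⟩ := tri_ok t ht
    have hh : i ≠ j → ¬ ((t.1 = i ∨ t.2.1 = i ∨ t.2.2.1 = i) ∧ (t.1 = j ∨ t.2.1 = j ∨ t.2.2.1 = j)) := by
      intro hij hc
      have : ctr i j = true := by
        simp only [ctr, Bool.and_eq_true, decide_eq_true_eq, List.any_eq_true, Bool.or_eq_true, or_assoc]
        exact ⟨hij, t, ht, hc⟩
      simp [h] at this
    simp only [mQ, bv, Pi.add_apply, Pi.single_apply]
    by_cases hij : i = j
    · subst hij
      split_ifs <;> simp_all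
    · have := hh hij
      split_ifs <;> simp_all
  simp only [tln, qua]
  revert key
  generalize tri = l
  intro key
  induction l with
  | nil => simp
  | cons t l ih =>
    simp only [List.map_cons, List.sum_cons]
    have h0 := key t List.mem_cons_self
    have := ih fun y hy => key y (List.mem_cons_of_mem _ hy)
    linear_combination this + h0

/-- The lines of the given points are fixed. -/
def Fix (g : (Fin 27 → F) ≃ₗ[F] (Fin 27 → F)) (P : List (Fin 27)) : Prop :=
  ∀ s ∈ P, ∀ j, j ≠ s → g (bv s) j = 0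

/-- The image of a point is supported in a list. -/
def Supp (g : (Fin 27 → F) ≃ₗ[F] (Fin 27 → F)) (i : Fin 27) (S : List (Fin 27)) : Prop :=
  ∀ j ∉ S, g (bv i) j = 0

theorem Fix.mono {g : (Fin 27 → F) ≃ₗ[F] (Fin 27 → F)} {P Q : List (Fin 27)} (h : Fix g P) (hQ : ∀ s ∈ Q, s ∈ P) :
    Fix g Q := fun s hs => h s (hQ s hs)

theorem Fix.eq_smul {g : (Fin 27 → F) ≃ₗ[F] (Fin 27 → F)} {P : List (Fin 27)} (h : Fix g P) {s : Fin 27}
    (hs : s ∈ P) : g (bv s) = g (bv s) s • bv s := by
  funext j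
  rcases eq_or_ne j s with rfl | hj
  · simp [bv_same]
  · simp [h s hs j hj, bv_ne hj]

theorem bv_nonzero (s : Fin 27) : (bv s : Fin 27 → F) ≠ 0 := fun h => by
  simpa [bv_same] using congrFun h s

theorem Fix.ne_zero {g : (Fin 27 → F) ≃ₗ[F] (Fin 27 → F)} {P : List (Fin 27)} (h : Fix g P) {s : Fin 27}
    (hs : s ∈ P) : g (bv s) s ≠ 0 := by
  intro h0
  have h' := h.eq_smul hs
  rw [h0, zero_smul, ← map_zero g] at h'
  exact bv_nonzero s (g.injective h')

/-- A vector whose image lies in the span of fixed points lies there. -/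
theorem Fix.preimage {g : (Fin 27 → F) ≃ₗ[F] (Fin 27 → F)} {P : List (Fin 27)} (h : Fix g P)
    {v : Fin 27 → F} (hv : ∀ j ∉ P, g v j = 0) : ∀ j ∉ P, v j = 0 := by
  set v' : Fin 27 → F := ∑ s ∈ P.toFinset, (g v s / g (bv s) s) • bv s with hv'
  have : g v' = g v := by
    funext j
    rw [hv', map_sum, Finset.sum_apply]
    by_cases hj : j ∈ P
    · rw [Finset.sum_eq_single_of_mem j (List.mem_toFinset.2 hj)]
      · rw [map_smul, Pi.smul_apply, smul_eq_mul, div_mul_cancel₀ _ (h.ne_zero hj)]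
      · intro s hs hne
        rw [map_smul, Pi.smul_apply, h s (List.mem_toFinset.1 hs) j hne.symm, smul_zero]
    · rw [hv j hj, Finset.sum_eq_zero]
      intro s hs
      have hne : j ≠ s := fun e => hj (e ▸ List.mem_toFinset.1 hs)
      rw [map_smul, Pi.smul_apply, h s (List.mem_toFinset.1 hs) j hne, smul_zero]
  intro j hj
  rw [← g.injective this, hv', Finset.sum_apply, Finset.sum_eq_zero]
  intro s hs
  rw [Pi.smul_apply, bv_ne (fun e => hj (by rw [e]; exact List.mem_toFinset.1 hs)), smul_zero]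

theorem Supp.exists_coord {g : (Fin 27 → F) ≃ₗ[F] (Fin 27 → F)} {P S : List (Fin 27)} (h : Fix g P) {i : Fin 27}
    (hi : i ∉ P) (hS : Supp g i S) : ∃ m ∈ S, m ∉ P ∧ g (bv i) m ≠ 0 := by
  by_contra hc
  push Not at hc
  have := h.preimage (v := bv i) (fun j hj => if hjS : j ∈ S then hc j hjS hj else hS j hjS) i hi
  simp [bv_same] at this

variable [Fintype F] (h3 : 3 ≤ Fintype.card F)
include h3

theorem qua_bv_image {g : (Fin 27 → F) ≃ₗ[F] (Fin 27 → F)} (hg : g ∈ Isom F) (i : Fin 27) (z : Fin 27 → F) :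
    qua (g (bv i)) z = 0 :=
  qua_image h3 hg (qua_single_single i tri_ok) z

theorem tln_bv_image {g : (Fin 27 → F) ≃ₗ[F] (Fin 27 → F)} (hg : g ∈ Isom F) {i j : Fin 27} (h : ctr i j = false)
    (z : Fin 27 → F) : tln (g (bv i)) (g (bv j)) z = 0 :=
  tln_image h3 hg (tln_bv h) z

theorem supp_allowed {g : (Fin 27 → F) ≃ₗ[F] (Fin 27 → F)} (hg : g ∈ Isom F) {P : List (Fin 27)} (hP : Fix g P)
    (i : Fin 27) : Supp g i (allowed (colP P i)) := by
  intro j hj
  simp only [allowed, List.mem_filter, List.mem_finRange, true_and, List.all_eq_true, Bool.not_eq_true', not_forall]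
    at hj
  obtain ⟨s, hs, hsj⟩ := hj
  obtain ⟨hsP, hsi⟩ := List.mem_filter.1 hs
  exact relKill (ctr_ok s j (by simpa using hsj))
    (fun k hk => hP s hsP k (by simpa using hk)) (fun k hk => absurd (List.mem_finRange k) hk)
    (hP.ne_zero hsP) (tln_bv_image h3 hg (by simpa using hsi))

end CfsgLib.E6Cubic
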