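import Cfsg.Agent.E6Cubic.Roots

/-!
Every root element is an isometry of the cubic form: a kernel-checked certificate for each of the 72 roots.
-/

set_option autoImplicit false

namespace CfsgLib.E6Cubic

/-- The terms contributed by an entry to the derivative of a monomial. -/
def hit (t : Mon) (e : Ent (Fin 27)) : List Mon :=
  (if t.1 = e.2.1 then [(e.1, t.2.1, t.2.2.1, t.2.2.2 * e.2.2)] else []) ++
    (if t.2.1 = e.2.1 then [(t.1, e.1, t.2.2.1, t.2.2.2 * e.2.2)] else []) ++
      (if t.2.2.1 = e.2.1 then [(t.1, t.2.1, e.1, t.2.2.2 * e.2.2)] else [])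

/-- The terms of the first-order change of the form under a sparse map. -/
def linTerm (l : List (Ent (Fin 27))) : List Mon := tri.flatMap fun t => l.flatMap (hit t)

/-- Sort the points of a monomial. -/
def srt (t : Mon) : Mon :=
  if t.1 ≤ t.2.1 then
    if t.2.1 ≤ t.2.2.1 then t
    else if t.1 ≤ t.2.2.1 then (t.1, t.2.2.1, t.2.1, t.2.2.2) else (t.2.2.1, t.1, t.2.1, t.2.2.2)
  else
    if t.1 ≤ t.2.2.1 then (t.2.1, t.1, t.2.2.1, t.2.2.2)
    else if t.2.1 ≤ t.2.2.1 then (t.2.1, t.2.2.1, t.1, t.2.2.2) else (t.2.2.1, t.2.1, t.1, t.2.2.2)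

/-- The coefficient of a sorted monomial. -/
def mcoef (l : List Mon) (a b c : Fin 27) : ℤ :=
  (l.map fun t => if t.1 = a ∧ t.2.1 = b ∧ t.2.2.1 = c then t.2.2.2 else 0).sum

/-- The list sums to the zero polynomial. -/
def isZeroP (l : List Mon) : Bool :=
  l.all fun t => decide (mcoef l t.1 t.2.1 t.2.2.1 = 0)

/-- No monomial meets the targets twice. -/
def flat (l : List (Ent (Fin 27))) : Bool :=
  tri.all fun t =>
    let p := fun j : Fin 27 => l.any fun e => decide (e.2.1 = j)
    (!p t.1 && !p t.2.1) || (!p t.1 && !p t.2.2.1) || (!p t.2.1 && !p t.2.2.1)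

set_option maxRecDepth 20000 in
theorem flat_ok : ∀ r < 72, flat (ents r) = true := by decide +kernel

set_option maxRecDepth 20000 in
theorem lin_ok : ∀ r < 72, isZeroP ((linTerm (ents r)).map srt) = true := by decide +kernel

variable {F : Type*} [Field F]

theorem mT_srt (t : Mon) (v : Fin 27 → F) : mT (srt t) v = mT t v := by
  unfold srt
  split_ifs <;> simp only [mT] <;> ring

theorem sum_mT_eq (l : List Mon) (v : Fin 27 → F) :
    (l.map fun t => mT t v).sum =
      ∑ x : Fin 27 × Fin 27 × Fin 27, (mcoef l x.1 x.2.1 x.2.2 : F) * (v x.1 * v x.2.1 * v x.2.2) := by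
  induction l with
  | nil => simp [mcoef]
  | cons t l ih =>
    obtain ⟨a, b, c, s⟩ := t
    simp only [List.map_cons, List.sum_cons, ih, mcoef, Int.cast_add, add_mul, Finset.sum_add_distrib]
    congr 1
    rw [Finset.sum_eq_single (a, b, c)]
    · simp [mT]
    · rintro ⟨x, y, z⟩ - hne
      rw [if_neg, Int.cast_zero, zero_mul]
      rintro ⟨rfl, rfl, rfl⟩
      exact hne rfl
    · simp

theorem sum_mT_zero {l : List Mon} (h : isZeroP l = true) (v : Fin 27 → F) : (l.map fun t => mT t v).sum = 0 := by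
  rw [sum_mT_eq]
  refine Finset.sum_eq_zero fun x _ => ?_
  suffices mcoef l x.1 x.2.1 x.2.2 = 0 by rw [this, Int.cast_zero, zero_mul]
  by_cases hm : ∃ t ∈ l, t.1 = x.1 ∧ t.2.1 = x.2.1 ∧ t.2.2.1 = x.2.2
  · obtain ⟨t, ht, h1, h2, h3⟩ := hm
    rw [← h1, ← h2, ← h3]
    exact of_decide_eq_true (List.all_eq_true.1 h t ht)
  · refine List.sum_eq_zero fun y hy => ?_
    obtain ⟨t, ht, rfl⟩ := List.mem_map.1 hy
    exact if_neg fun h' => hm ⟨t, ht, h'⟩

theorem mQ_op (t : Mon) (l : List (Ent (Fin 27))) (v : Fin 27 → F) :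
    mQ t v (op l v) = ((l.flatMap (hit t)).map fun u => mT u v).sum := by
  induction l with
  | nil => simp [op_nil, mQ]
  | cons e l ih =>
    rw [List.flatMap_cons, List.map_append, List.sum_append, ← ih, op_cons]
    simp only [mQ, Pi.add_apply, Pi.single_apply, hit]
    split_ifs <;> simp [mT] <;> ring

theorem qua_op (l : List (Ent (Fin 27))) (v : Fin 27 → F) :
    qua v (op l v) = ((linTerm l).map fun u => mT u v).sum := by
  simp only [qua, linTerm, mQ_op]
  generalize tri = ts
  induction ts with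
  | nil => simp
  | cons t ts ih => simp [ih]

theorem qua_op_zero {r : ℕ} (hr : r < 72) (v : Fin 27 → F) : qua v (op (ents r) v) = 0 := by
  rw [qua_op]
  have := sum_mT_zero (lin_ok r hr) v
  rw [List.map_map] at this
  simpa only [Function.comp_def, mT_srt] using this

theorem op_eq_zero {l : List (Ent (Fin 27))} {j : Fin 27} (h : (l.any fun e => decide (e.2.1 = j)) = false)
    (v : Fin 27 → F) : op l v j = 0 := by
  rw [op_apply]
  refine Finset.sum_eq_zero fun i _ => ?_
  rw [coef_eq_zero, Int.cast_zero, zero_mul]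
  intro e he h'
  rw [List.any_eq_false] at h
  exact h e he (decide_eq_true h'.2)

theorem xr_isom {r : ℕ} (hr : r < 72) (s : F) : xr r s ∈ Isom F := fun v => by
  have hf := flat_ok r hr
  have hq := qua_op_zero (F := F) hr v
  rw [flat, List.all_eq_true] at hf
  have key : ∀ t ∈ tri, mT t (xr r s v) = mT t v + s * mQ t v (op (ents r) v) := fun t ht => by
    have h := hf t ht
    simp only [Bool.or_eq_true, Bool.and_eq_true, Bool.not_eq_true'] at h
    rcases h with (⟨h1, h2⟩ | ⟨h1, h2⟩) | ⟨h1, h2⟩ <;>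
      simp only [mT, mQ, xr_apply, Pi.add_apply, Pi.smul_apply, smul_eq_mul, op_eq_zero h1, op_eq_zero h2] <;> ring
  rw [qua] at hq
  simp only [cub]
  rw [List.map_congr_left key]
  rw [List.sum_map_add, List.sum_map_mul_left, hq, mul_zero, add_zero]

theorem range_rep_le : (rep (F := F)).range ≤ Isom F := by
  rw [rep_range, Subgroup.closure_le]
  rintro _ ⟨r, hr, t, rfl⟩
  exact xr_isom hr t

end CfsgLib.E6Cubic
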