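import Cfsg.Agent.E6Cubic.Incid

/-!
Moves by root elements which keep given lines fixed, with Boolean certificates.
-/

set_option autoImplicit false

namespace CfsgLib.E6Cubic

set_option maxRecDepth 20000 in
theorem ents_ok : ∀ r < 72, ∀ e ∈ ents r,
    coef (ents r) e.1 e.2.1 = e.2.2 ∧ e.2.2 * e.2.2 = 1 ∧ (e.2.1, e.1, e.2.2) ∈ ents (Cfsg.Lie.chevE6.neg r) ∧
      ∀ e' ∈ ents r, e'.2.1 = e.2.1 → e'.1 = e.1 := by decide +kernel

/-- The root carrying the first point to the second. -/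
def rootOf (i j : Fin 27) : ℕ :=
  entsL.findIdx fun l => l.any fun e => decide (e.1 = i) && decide (e.2.1 = j)

/-- A root which has the wanted entry and moves none of the given points. -/
def moveOK (P : List (Fin 27)) (i j : Fin 27) : Bool :=
  let r := rootOf i j
  decide (r < 72) && ((ents r).any fun e => decide (e.1 = i) && decide (e.2.1 = j)) &&
    (ents r).all fun e => decide (e.1 ∉ P)

/-- From every possible point there is a way to the wanted one. -/
def reachOK (P S : List (Fin 27)) (i : Fin 27) : Bool :=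
  S.all fun m => decide (m ∈ P) || decide (m = i) || moveOK P m i ||
    S.any fun q => decide (q ∉ P) && moveOK P m q && moveOK P q i

/-- The certificate of a sequence of clearing moves. -/
def clrOK (P : List (Fin 27)) (dom : List (Fin 27 × List (Fin 27))) :
    List (Fin 27 × Fin 27) → List (Fin 27 × Fin 27) → Bool
  | _, [] => true
  | done, (i, j) :: rest =>
    (dom.any fun d => decide (d.1 = i)) && moveOK P i j &&
      (dom.all fun d => (ents (rootOf i j)).all fun e =>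
        decide (e.1 ∉ d.2) || (decide (e.2.1 ∈ d.2) && decide (e.2.1 ≠ d.1))) &&
      (done.all fun p => dom.any fun d => decide (d.1 = p.1) &&
        (ents (rootOf i j)).all fun e => decide (e.2.1 ≠ p.2) || decide (e.1 ∉ d.2)) &&
      clrOK P dom (done ++ [(i, j)]) rest

variable {F : Type*} [Field F]

theorem op_entry {r : ℕ} (hr : r < 72) {e : Ent (Fin 27)} (he : e ∈ ents r) (v : Fin 27 → F) :
    op (ents r) v e.2.1 = (e.2.2 : F) * v e.1 := by
  obtain ⟨h1, -, -, h4⟩ := ents_ok r hr e he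
  rw [op_apply, Finset.sum_eq_single e.1, h1]
  · intro k _ hk
    rw [coef_eq_zero, Int.cast_zero, zero_mul]
    rintro e' he' ⟨rfl, hj⟩
    exact hk (h4 e' he' hj)
  · simp

theorem op_zero_at (l : List (Ent (Fin 27))) (j : Fin 27) (v : Fin 27 → F)
    (h : ∀ e ∈ l, e.2.1 = j → v e.1 = 0) : op l v j = 0 := by
  rw [op_apply]
  refine Finset.sum_eq_zero fun k _ => ?_
  by_cases hk : ∃ e ∈ l, e.1 = k ∧ e.2.1 = j
  · obtain ⟨e, he, rfl, hj⟩ := hk
    rw [h e he hj, mul_zero]
  · rw [coef_eq_zero fun e he h' => hk ⟨e, he, h'⟩, Int.cast_zero, zero_mul]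

theorem entry_sign_ne {r : ℕ} (hr : r < 72) {e : Ent (Fin 27)} (he : e ∈ ents r) : ((e.2.2 : ℤ) : F) ≠ 0 := by
  intro h
  have := congrArg (fun k : ℤ => (k : F)) (ents_ok r hr e he).2.1
  simp [h] at this

theorem moveOK_spec {P : List (Fin 27)} {i j : Fin 27} (h : moveOK P i j = true) :
    rootOf i j < 72 ∧ (∃ σ, (i, j, σ) ∈ ents (rootOf i j)) ∧ ∀ e ∈ ents (rootOf i j), e.1 ∉ P := by
  simp only [moveOK, Bool.and_eq_true, decide_eq_true_eq, List.any_eq_true, List.all_eq_true] at h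
  obtain ⟨⟨h1, ⟨a, b, σ⟩, he, rfl, rfl⟩, h3⟩ := h
  exact ⟨h1, ⟨σ, he⟩, h3⟩

theorem xr_at (r : ℕ) (t : F) {v : Fin 27 → F} {j : Fin 27} (h : ∀ e ∈ ents r, e.2.1 = j → v e.1 = 0) :
    xr r t v j = v j := by
  rw [xr_apply, Pi.add_apply, Pi.smul_apply, op_zero_at _ _ _ h, smul_zero, add_zero]

theorem fix_xr {r : ℕ} (t : F) {g : (Fin 27 → F) ≃ₗ[F] (Fin 27 → F)} {P : List (Fin 27)} (hg : Fix g P)
    (h : ∀ e ∈ ents r, e.1 ∉ P) : Fix (xr r t * g) P := by
  intro s hs j hj
  rw [LinearEquiv.mul_apply, xr_at r t, hg s hs j hj]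
  intro e he _
  exact hg s hs _ fun e' => h e he (e' ▸ hs)

theorem moveStep {P : List (Fin 27)} {i j : Fin 27} (hc : moveOK P i j = true) {g : (Fin 27 → F) ≃ₗ[F] (Fin 27 → F)}
    (hg : Fix g P) {v : Fin 27} (hv : g (bv v) i ≠ 0) :
    ∃ h ∈ (rep (F := F)).range, Fix (h * g) P ∧ (h * g) (bv v) j ≠ 0 := by
  obtain ⟨hr, ⟨σ, he⟩, hP⟩ := moveOK_spec hc
  by_cases h0 : g (bv v) j = 0
  · refine ⟨_, xr_mem hr 1, fix_xr 1 hg hP, ?_⟩
    rw [LinearEquiv.mul_apply, xr_apply, Pi.add_apply, Pi.smul_apply, h0, zero_add, one_smul, op_entry hr he]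
    exact mul_ne_zero (entry_sign_ne hr he) hv
  · exact ⟨1, one_mem _, by rwa [one_mul], by rwa [one_mul]⟩

theorem reach {P S : List (Fin 27)} {i : Fin 27} (hc : reachOK P S i = true)
    {g : (Fin 27 → F) ≃ₗ[F] (Fin 27 → F)} (hg : Fix g P) (hi : i ∉ P) (hS : Supp g i S) :
    ∃ h ∈ (rep (F := F)).range, Fix (h * g) P ∧ (h * g) (bv i) i ≠ 0 := by
  obtain ⟨m, hm, hmP, hm0⟩ := hS.exists_coord hg hi
  have h := List.all_eq_true.1 hc m hm
  simp only [Bool.or_eq_true, decide_eq_true_eq, List.any_eq_true, Bool.and_eq_true] at h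
  rcases h with ((h | h) | h) | ⟨q, -, ⟨-, h1⟩, h2⟩
  · exact absurd h hmP
  · exact ⟨1, one_mem _, by rwa [one_mul], by rw [one_mul, ← h]; rw [h] at hm0 ⊢; exact hm0⟩
  · exact moveStep h hg hm0
  · obtain ⟨a, ha, hga, hna⟩ := moveStep h1 hg hm0
    obtain ⟨b, hb, hgb, hnb⟩ := moveStep h2 hga hna
    exact ⟨b * a, mul_mem hb ha, by rwa [mul_assoc], by rwa [mul_assoc]⟩

/-- The situation in which moves clear coordinates. -/
def Good (g : (Fin 27 → F) ≃ₗ[F] (Fin 27 → F)) (P : List (Fin 27)) (dom : List (Fin 27 × List (Fin 27))) : Prop :=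
  Fix g P ∧ ∀ d ∈ dom, Supp g d.1 d.2 ∧ g (bv d.1) d.1 ≠ 0

theorem clear (P : List (Fin 27)) (dom : List (Fin 27 × List (Fin 27))) :
    ∀ (steps done : List (Fin 27 × Fin 27)) (g : (Fin 27 → F) ≃ₗ[F] (Fin 27 → F)),
      clrOK P dom done steps = true → Good g P dom → (∀ p ∈ done, g (bv p.1) p.2 = 0) →
        ∃ h ∈ (rep (F := F)).range, Good (h * g) P dom ∧ ∀ p ∈ done ++ steps, (h * g) (bv p.1) p.2 = 0 := by
  intro steps
  induction steps with
  | nil => intro done g _ hg hd; exact ⟨1, one_mem _, by rwa [one_mul], by simpa [one_mul] using hd⟩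
  | cons p rest ih =>
    obtain ⟨i, j⟩ := p
    intro done g hc ⟨hfix, hdom⟩ hd
    simp only [clrOK, Bool.and_eq_true, List.any_eq_true, List.all_eq_true, Bool.or_eq_true, decide_eq_true_eq]
      at hc
    obtain ⟨⟨⟨⟨⟨d₀, hd₀, rfl⟩, hmv⟩, hinv⟩, hdone⟩, hrest⟩ := hc
    obtain ⟨hr, ⟨σ, he⟩, hP⟩ := moveOK_spec hmv
    set r := rootOf d₀.1 j
    set t : F := -(g (bv d₀.1) j / ((σ : F) * g (bv d₀.1) d₀.1)) with ht
    have hsame : ∀ d ∈ dom, (xr r t * g) (bv d.1) d.1 = g (bv d.1) d.1 := by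
      intro d hd'
      refine xr_at r t fun e he' hj => ?_
      rcases hinv d hd' e he' with h | ⟨-, h⟩
      · exact (hdom d hd').1 _ h
      · exact absurd hj h
    have hgood : Good (xr r t * g) P dom := by
      refine ⟨fix_xr t hfix hP, fun d hd' => ⟨?_, by rw [hsame d hd']; exact (hdom d hd').2⟩⟩
      intro k hk
      rw [LinearEquiv.mul_apply, xr_at r t, (hdom d hd').1 k hk]
      intro e he' hj
      rcases hinv d hd' e he' with h | ⟨h, -⟩
      · exact (hdom d hd').1 _ h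
      · exact absurd (hj ▸ h) hk
    have hdone' : ∀ p ∈ done ++ [(d₀.1, j)], (xr r t * g) (bv p.1) p.2 = 0 := by
      intro p hp
      rcases List.mem_append.1 hp with hp | hp
      · obtain ⟨d, hd', hd1, hde⟩ := hdone p hp
        rw [LinearEquiv.mul_apply, xr_at r t, hd p hp]
        intro e he' hj
        rcases hde e he' with h | h
        · exact absurd hj h
        · rw [← hd1]; exact (hdom d hd').1 _ h
      · rw [List.mem_singleton] at hp
        subst hp
        have hne := mul_ne_zero (entry_sign_ne (F := F) hr he) (hdom d₀ hd₀).2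
        rw [LinearEquiv.mul_apply, xr_apply, Pi.add_apply, Pi.smul_apply, op_entry hr he, smul_eq_mul, ht,
          neg_mul, div_mul_cancel₀ _ hne, add_neg_cancel]
    obtain ⟨h, hh, hgood', hz⟩ := ih _ _ hrest hgood hdone'
    refine ⟨h * xr r t, mul_mem hh (xr_mem hr t), by rwa [mul_assoc], ?_⟩
    rw [mul_assoc]
    simpa using hz

end CfsgLib.E6Cubic
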