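import Cfsg.Agent.E6Cubic.Stages

/-!
Every isometry can be moved by root elements to one which is diagonal in the coordinate vectors.
-/

set_option autoImplicit false

namespace CfsgLib.E6Cubic

/-- The supports and clearing data for the fifteen middle points. -/
def domC : List (Fin 27 × List (Fin 27)) :=
  [(8, [2, 8, 19, 22, 25]), (7, [1, 7, 19, 22, 25]), (9, [1, 2, 9, 22, 25]), (10, [1, 2, 10, 19, 25]),
   (11, [1, 2, 11, 19, 22]), (6, [0, 6, 19, 22, 25]), (12, [0, 2, 12, 22, 25]), (13, [0, 2, 13, 19, 25]),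
   (14, [0, 2, 14, 19, 22]), (15, [0, 1, 15, 22, 25]), (16, [0, 1, 16, 19, 25]), (17, [0, 1, 17, 19, 22]),
   (26, [0, 1, 2, 25, 26]), (23, [0, 1, 2, 22, 23]), (20, [0, 1, 2, 19, 20])]

/-- The clearing moves for the middle points. -/
def stepsC : List (Fin 27 × Fin 27) :=
  [(6, 0), (12, 0), (13, 0), (14, 0), (15, 0), (16, 0), (17, 0), (26, 0), (23, 0), (20, 0), (15, 1), (16, 1), (17, 1),
   (26, 1), (23, 1), (20, 1), (26, 2), (23, 2), (20, 2), (20, 19)]

/-- The coefficients killed by a relation with a cleared one. -/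
def killsC : List (Fin 27 × Fin 27 × Fin 27) :=
  [(6, 7, 1), (6, 8, 2), (12, 9, 1), (12, 8, 19), (13, 10, 1), (13, 8, 22), (14, 11, 1), (14, 8, 25), (15, 9, 2),
   (15, 7, 19), (16, 10, 2), (16, 7, 22), (17, 11, 2), (17, 7, 25), (26, 10, 19), (26, 9, 22), (23, 11, 19),
   (23, 9, 25), (20, 11, 22), (20, 10, 25), (15, 12, 2), (15, 6, 19), (16, 13, 2), (16, 6, 22), (17, 14, 2),
   (17, 6, 25), (26, 13, 19), (26, 12, 22), (23, 14, 19), (23, 12, 25), (20, 14, 22), (20, 13, 25), (26, 16, 19),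
   (26, 15, 22), (23, 17, 19), (23, 15, 25), (20, 17, 22), (20, 16, 25), (20, 23, 22), (20, 26, 25)]

/-- The supports for the last six points. -/
def domB : List (Fin 27 × List (Fin 27)) :=
  [(3, [0, 3]), (4, [1, 4]), (5, [2, 5]), (18, [18, 19]), (21, [21, 22]), (24, [24, 25])]

theorem cert0 : stepCert [] 0 (allowed []) = true := by decide +kernel
theorem cert1 : stepCert [0] 1 (allowed [0]) = true := by decide +kernel
theorem cert2 : stepCert [0, 1] 2 (allowed [0, 1]) = true := by decide +kernel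
theorem cert3 : stepCert [0, 1, 2] 19 (allowed [0, 1, 2]) = true := by decide +kernel
theorem cert4 : stepCert [0, 1, 2, 19] 22 [0, 1, 2, 19, 22, 25] = true := by decide +kernel
theorem cert5 : stepCert [0, 1, 2, 19, 22] 25 (allowed [0, 1, 2, 19, 22]) = true := by decide +kernel
theorem col_ok : colP ([] : List (Fin 27)) 0 = [] ∧ colP [0] 1 = [0] ∧ colP [0, 1] 2 = [0, 1] ∧
    colP [0, 1, 2] 19 = [0, 1, 2] ∧ colP [0, 1, 2, 19] 22 = [0, 1, 2, 19] ∧
      colP [0, 1, 2, 19] 25 = [0, 1, 2, 19] ∧ colP [0, 1, 2, 19, 22] 25 = [0, 1, 2, 19, 22] ∧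
        allowed [0, 1, 2, 19] = [0, 1, 2, 19, 20, 22, 25] ∧ ctr 22 25 = false := by decide +kernel

theorem excl_ok : qOK [0, 1, 2, 19, 20, 22, 25] 20 22 = true ∧ qOK [0, 1, 2, 19, 20, 22, 25] 20 25 = true ∧
    relOK [0, 1, 2, 19, 20] [0, 1, 2, 19, 20, 22, 25] 20 22 = true ∧
      relOK [0, 1, 2, 19, 20] [0, 1, 2, 19, 20, 22, 25] 20 25 = true := by decide +kernel

set_option maxRecDepth 20000 in
theorem certC : manyCert [0, 1, 2, 19, 22, 25] domC stepsC killsC = true := by decide +kernel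

set_option maxRecDepth 20000 in
theorem certB : manyCert ([0, 1, 2, 19, 22, 25] ++ domC.map Prod.fst) domB [(3, 0)]
    [(3, 4, 1), (3, 5, 2), (3, 18, 19), (3, 21, 22), (3, 24, 25)] = true := by decide +kernel

theorem cover : ∀ j : Fin 27, j ∈ [0, 1, 2, 19, 22, 25] ++ domC.map Prod.fst ++ domB.map Prod.fst := by
  decide +kernel

variable {F : Type*} [Field F] [Fintype F] (h3 : 3 ≤ Fintype.card F)
include h3

/-- The point cotriad to two of the fixed points does not occur. -/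
theorem exclude {g : (Fin 27 → F) ≃ₗ[F] (Fin 27 → F)} (hg : g ∈ Isom F) (hP : Fix g [0, 1, 2, 19]) :
    Supp g 22 [0, 1, 2, 19, 22, 25] := by
  obtain ⟨-, -, -, -, c22, c25, -, hall, hctr⟩ := col_ok
  have hw : Supp g 22 [0, 1, 2, 19, 20, 22, 25] := by simpa only [c22, hall] using supp_allowed h3 hg hP 22
  have hu : Supp g 25 [0, 1, 2, 19, 20, 22, 25] := by simpa only [c25, hall] using supp_allowed h3 hg hP 25
  obtain ⟨q22, q25, r22, r25⟩ := excl_ok
  suffices h20 : g (bv 22) 20 = 0 by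
    intro j hj
    by_cases h : j = 20
    · rw [h, h20]
    · exact hw j (by simp_all)
  by_contra hne
  have w22 := quadKill q22 hw hne (qua_bv_image h3 hg 22)
  have w25 := quadKill q25 hw hne (qua_bv_image h3 hg 22)
  have hw' : ∀ j ∉ ([0, 1, 2, 19, 20] : List (Fin 27)), g (bv 22) j = 0 := by
    intro j hj
    by_cases ha : j = 22
    · rw [ha, w22]
    by_cases hb : j = 25
    · rw [hb, w25]
    exact hw j (by simp_all)
  have u22 := relKill r22 hw' hu hne (tln_bv_image h3 hg hctr)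
  have u25 := relKill r25 hw' hu hne (tln_bv_image h3 hg hctr)
  set c : F := g (bv 25) 20 / g (bv 22) 20 with hc
  have := hP.preimage (v := bv 25 - c • bv 22) (fun j hj => by
    rw [map_sub, map_smul, Pi.sub_apply, Pi.smul_apply, smul_eq_mul]
    by_cases h : j = 20
    · rw [h, hc, div_mul_cancel₀ _ hne, sub_self]
    · rw [hw' j (by simp_all), mul_zero, sub_zero]
      by_cases ha : j = 22
      · rw [ha, u22]
      by_cases hb : j = 25
      · rw [hb, u25]
      exact hu j (by simp_all)) 25 (by decide)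
  simp [bv_same, bv_ne (show (25 : Fin 27) ≠ 22 by decide)] at this

theorem exists_fix_all {g : (Fin 27 → F) ≃ₗ[F] (Fin 27 → F)} (hg : g ∈ Isom F) :
    ∃ h ∈ (rep (F := F)).range, ∀ j k, k ≠ j → (h * g) (bv j) k = 0 := by
  obtain ⟨c0, c1, c2, c3, -, -, c5, -, -⟩ := col_ok
  have step : ∀ (P Q : List (Fin 27)), (∀ g' ∈ Isom F, Fix g' P → ∃ h ∈ (rep (F := F)).range, Fix (h * g') Q) →
      (∃ h ∈ (rep (F := F)).range, Fix (h * g) P) → ∃ h ∈ (rep (F := F)).range, Fix (h * g) Q := by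
    rintro P Q hstep ⟨a, ha, hfix⟩
    obtain ⟨b, hb, hfix'⟩ := hstep _ (mul_mem (range_rep_le ha) hg) hfix
    exact ⟨b * a, mul_mem hb ha, by rwa [mul_assoc]⟩
  have supp : ∀ {P : List (Fin 27)} {i : Fin 27}, colP P i = P → ∀ g' ∈ Isom F, Fix g' P →
      Supp g' i (allowed P) := fun {P i} e g' hg' hP => by simpa only [e] using supp_allowed h3 hg' hP i
  have h0 : ∃ h ∈ (rep (F := F)).range, Fix (h * g) [] := ⟨1, one_mem _, by simp [Fix]⟩
  have h1 := step [] [0] (fun g' hg' hP => extend h3 cert0 (supp c0) hg' hP) h0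
  have h2 := step [0] [0, 1] (fun g' hg' hP => extend h3 cert1 (supp c1) hg' hP) h1
  have h3' := step [0, 1] [0, 1, 2] (fun g' hg' hP => extend h3 cert2 (supp c2) hg' hP) h2
  have h4 := step [0, 1, 2] [0, 1, 2, 19] (fun g' hg' hP => extend h3 cert3 (supp c3) hg' hP) h3'
  have h5 := step [0, 1, 2, 19] [0, 1, 2, 19, 22]
    (fun g' hg' hP => extend h3 cert4 (fun a ha hb => exclude h3 ha hb) hg' hP) h4
  have h6 := step [0, 1, 2, 19, 22] [0, 1, 2, 19, 22, 25] (fun g' hg' hP => extend h3 cert5 (supp c5) hg' hP) h5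
  have h7 := step _ _ (fun g' hg' hP => extendMany h3 certC hg' hP) h6
  obtain ⟨h, hh, hfix⟩ := step _ _ (fun g' hg' hP => extendMany h3 certB hg' hP) h7
  exact ⟨h, hh, fun j k hk => hfix j (cover j) k hk⟩

end CfsgLib.E6Cubic
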