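import Cfsg.Agent.E6Cubic.Certs
import Cfsg.Agent.E6Cubic.Form
import Cfsg.Prelude.Def_Steinberg
import Cfsg.Prelude.Def_ChevE6
import Mathlib.Tactic.Module
import Mathlib.Tactic.FieldSimp

/-!
The root elements on 27 coordinates satisfy Steinberg's relations of type E₆.
-/

set_option autoImplicit false

namespace CfsgLib.E6Cubic

open Cfsg.Lie

variable {F : Type*} [Field F]

theorem sq_zero (r : ℕ) (v : Fin 27 → F) : op (ents r) (op (ents r) v) = 0 := by
  by_cases hr : r < 72
  · rw [comp_eq (sq_ok r hr), op_nil, LinearMap.zero_apply]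
  · rw [show ents r = [] from List.getD_eq_default _ _ (by
      rw [show entsL.length = 72 by decide +kernel]; omega), op_nil, LinearMap.zero_apply]

/-- The root element. -/
def xr (r : ℕ) (t : F) : (Fin 27 → F) ≃ₗ[F] (Fin 27 → F) where
  toFun v := v + t • op (ents r) v
  map_add' u v := by simp only [map_add, smul_add]; abel
  map_smul' c v := by simp only [map_smul, RingHom.id_apply, smul_add, smul_comm t c]
  invFun v := v + (-t) • op (ents r) v
  left_inv v := by simp only [map_add, map_smul, sq_zero, smul_zero, add_zero]; module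
  right_inv v := by simp only [map_add, map_smul, sq_zero, smul_zero, add_zero]; module

@[simp] theorem xr_apply (r : ℕ) (t : F) (v : Fin 27 → F) : xr r t v = v + t • op (ents r) v := rfl

theorem xr_add (r : ℕ) (t u : F) : xr r t * xr r u = xr r (t + u) := by
  refine LinearEquiv.ext fun v => ?_
  rw [LinearEquiv.mul_apply]
  simp only [xr_apply, map_add, map_smul, sq_zero, smul_zero, add_zero]
  module

theorem xr_zero (r : ℕ) : xr r (0 : F) = 1 := LinearEquiv.ext fun v => by simp [LinearEquiv.coe_one]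

theorem xr_inv (r : ℕ) (t : F) : (xr r t)⁻¹ = xr r (-t) :=
  inv_eq_of_mul_eq_one_right (by rw [xr_add, add_neg_cancel, xr_zero])

/-- The product `n(t)`. -/
theorem xr_n {r : ℕ} (hr : r < 72) {t : F} (ht : t ≠ 0) (v : Fin 27 → F) :
    xr r t (xr (chevE6.neg r) (-t⁻¹) (xr r t v)) =
      v - op (ents r) (op (ents (chevE6.neg r)) v) - op (ents (chevE6.neg r)) (op (ents r) v) +
        t • op (ents r) v - t⁻¹ • op (ents (chevE6.neg r)) v := by
  obtain ⟨-, -, h⟩ := neg_ok r hr
  have h3 : ∀ w : Fin 27 → F, op (ents r) (op (ents (chevE6.neg r)) (op (ents r) w)) = op (ents r) w := fun w => by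
    rw [show op (ents (chevE6.neg r)) (op (ents r) w) = op (cmp (ents (chevE6.neg r)) (ents r)) w by
      rw [op_cmp]; rfl, comp_eq h]
  simp only [xr_apply, map_add, map_smul, map_neg, sq_zero, h3, smul_zero, add_zero, smul_add, smul_neg,
    neg_smul, smul_smul, mul_inv_cancel₀ ht, inv_mul_cancel₀ ht, one_smul]
  module

/-- The element `h(t)`. -/
noncomputable def hr' (r : ℕ) (t : F) : (Fin 27 → F) ≃ₗ[F] (Fin 27 → F) :=
  xr r t * xr (chevE6.neg r) (-t⁻¹) * xr r t * (xr r (-1) * xr (chevE6.neg r) (-(-1 : F)⁻¹) * xr r (-1))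

theorem hr'_apply {r : ℕ} (hr : r < 72) {t : F} (ht : t ≠ 0) (v : Fin 27 → F) :
    hr' r t v = v + (t - 1) • op (ents r) (op (ents (chevE6.neg r)) v) +
      (t⁻¹ - 1) • op (ents (chevE6.neg r)) (op (ents r) v) := by
  have hm : (-1 : F) ≠ 0 := neg_ne_zero.2 one_ne_zero
  obtain ⟨hn, hnn, h⟩ := neg_ok r hr
  obtain ⟨-, -, h'⟩ := neg_ok _ hn
  rw [hnn] at h'
  set s := chevE6.neg r with hs
  have h3 : ∀ w : Fin 27 → F, op (ents r) (op (ents s) (op (ents r) w)) = op (ents r) w := fun w => by
    rw [show op (ents s) (op (ents r) w) = op (cmp (ents s) (ents r)) w by rw [op_cmp]; rfl, comp_eq h]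
  have h4 : ∀ w : Fin 27 → F, op (ents s) (op (ents r) (op (ents s) w)) = op (ents s) w := fun w => by
    rw [show op (ents r) (op (ents s) w) = op (cmp (ents r) (ents s)) w by rw [op_cmp]; rfl, comp_eq h']
  simp only [hr', LinearEquiv.mul_apply, ← hs]
  rw [hs, xr_n hr ht, xr_n hr hm, ← hs]
  simp only [inv_neg, inv_one, map_add, map_sub, map_neg, map_smul, sq_zero, h3, h4, neg_smul, one_smul, sub_smul,
    sub_self, map_zero, neg_zero, sub_zero, zero_sub, add_zero, zero_add]
  module

theorem hr'_mul {r : ℕ} (hr : r < 72) {t u : F} (ht : t ≠ 0) (hu : u ≠ 0) : hr' r t * hr' r u = hr' r (t * u) := by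
  obtain ⟨hn, hnn, h⟩ := neg_ok r hr
  obtain ⟨-, -, h'⟩ := neg_ok _ hn
  rw [hnn] at h'
  set s := chevE6.neg r with hs
  have h3 : ∀ w : Fin 27 → F, op (ents r) (op (ents s) (op (ents r) w)) = op (ents r) w := fun w => by
    rw [show op (ents s) (op (ents r) w) = op (cmp (ents s) (ents r)) w by rw [op_cmp]; rfl, comp_eq h]
  have h4 : ∀ w : Fin 27 → F, op (ents s) (op (ents r) (op (ents s) w)) = op (ents s) w := fun w => by
    rw [show op (ents r) (op (ents s) w) = op (cmp (ents r) (ents s)) w by rw [op_cmp]; rfl, comp_eq h']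
  refine LinearEquiv.ext fun v => ?_
  rw [LinearEquiv.mul_apply, hr'_apply hr ht, hr'_apply hr hu, hr'_apply hr (mul_ne_zero ht hu)]
  simp only [← hs, map_add, map_smul, sq_zero, h3, h4, smul_zero, add_zero, zero_add, mul_inv]
  module

theorem mul4_ext {a b c d e : (Fin 27 → F) ≃ₗ[F] (Fin 27 → F)} (h : ∀ v, a (b (c (d v))) = e v) :
    a * b * c * d = e := LinearEquiv.ext fun v => by simpa [LinearEquiv.mul_apply] using h v

theorem xr_comm {r s : ℕ} (hr : r < 72) (hs : s < 72) (hne : s ≠ r) (hne' : s ≠ chevE6.neg r) (t u : F) :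
    (xr s u)⁻¹ * (xr r t)⁻¹ * xr s u * xr r t =
      ((chevE6.commWord F r s t u).map fun p => xr p.1 p.2).prod := by
  have hrs : ∀ {m : List (Ent (Fin 27))}, commRhs r s = some m → ∀ v : Fin 27 → F,
      op (ents r) (op (ents s) v) - op (ents s) (op (ents r) v) = op m v ∧
        op (ents r) (op (ents s) (op (ents r) v)) = 0 := by
    intro m hm v
    have h := pair_ok r hr s hs
    simp only [chkPair, hne, hne', decide_false, Bool.false_or, hm, Bool.and_eq_true] at h
    have h1 := LinearMap.congr_fun (op_eq (F := F) h.1) v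
    rw [op_append, op_scl, op_cmp, op_cmp] at h1
    simp only [LinearMap.add_apply, LinearMap.smul_apply, LinearMap.comp_apply, Int.cast_neg, Int.cast_one,
      neg_smul, one_smul, ← sub_eq_add_neg] at h1
    refine ⟨h1, ?_⟩
    rw [show op (ents s) (op (ents r) v) = op (cmp (ents s) (ents r)) v by rw [op_cmp]; rfl, comp_eq h.2, op_nil,
      LinearMap.zero_apply]
  have hsne : r ≠ chevE6.neg s := fun e => hne' (by rw [e, (neg_ok s hs).2.1])
  have hsr : ∀ v : Fin 27 → F, op (ents s) (op (ents r) (op (ents s) v)) = 0 := fun v => by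
    have h := pair_ok s hs r hr
    simp only [chkPair, Ne.symm hne, hsne, decide_false, Bool.false_or] at h
    split at h
    · simp only [Bool.and_eq_true] at h
      rw [show op (ents r) (op (ents s) v) = op (cmp (ents r) (ents s)) v by rw [op_cmp]; rfl, comp_eq h.2, op_nil,
        LinearMap.zero_apply]
    · exact absurd h (by simp)
  have key : ∀ v : Fin 27 → F, (xr s (-u)) ((xr r (-t)) (xr s u (xr r t v))) =
      v - (t * u) • (op (ents r) (op (ents s) v) - op (ents s) (op (ents r) v)) := fun v => by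
    have h0 : ∀ w, op (ents r) (op (ents s) (op (ents r) w)) = (0 : Fin 27 → F) := fun w => by
      cases hm : commRhs r s with
      | none =>
        have h := pair_ok r hr s hs
        simp only [chkPair, hne, hne', decide_false, Bool.false_or, hm] at h
        exact absurd h (by simp)
      | some m => exact (hrs hm w).2
    simp only [xr_apply, map_add, map_smul, sq_zero, hsr, h0, smul_zero, add_zero, zero_add, smul_add, smul_smul,
      neg_smul, map_neg]
    module
  rw [xr_inv, xr_inv]
  unfold ChevalleyDatum.commWord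
  have hp := pair_ok r hr s hs
  simp only [chkPair, hne, hne', decide_false, Bool.false_or] at hp
  unfold commRhs at hrs hp
  split at hp <;> rename_i m hm
  · split at hm <;> rename_i hc
    · rw [hc, List.map_nil, List.map_nil, List.prod_nil]
      refine mul4_ext fun v => ?_
      rw [key, (hrs (m := []) (by simp [hc]) v).1]
      simp [op_nil]
    · rename_i z C
      split at hm
      · rw [hc, List.map_cons, List.map_nil, List.map_cons, List.map_nil, List.prod_singleton]
        refine mul4_ext fun v => ?_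
        rw [key, (hrs (m := scl C (ents z)) (by simp_all) v).1, op_scl]
        simp only [xr_apply, LinearMap.smul_apply, pow_one]
        module
      · exact absurd hm (by simp)
    · exact absurd hm (by simp)
  · exact absurd hp (by simp)

/-- The root elements as a map on symbols. -/
def symMap (p : Fin chevE6.nroots × F) : (Fin 27 → F) ≃ₗ[F] (Fin 27 → F) := xr p.1.val p.2

theorem lift_stX (r : ℕ) (hr : r < 72) (t : F) :
    FreeGroup.lift (symMap (F := F)) (chevE6.stX r t) = xr r t := by
  have hr' : r < chevE6.nroots := hr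
  simp [ChevalleyDatum.stX, hr', symMap]

theorem lift_stWord (w : List (ℕ × F)) (hw : ∀ p ∈ w, p.1 < 72) :
    FreeGroup.lift (symMap (F := F)) (chevE6.stWord w) = (w.map fun p => xr p.1 p.2).prod := by
  induction w with
  | nil => simp [ChevalleyDatum.stWord]
  | cons p w ih =>
    have h := ih fun q hq => hw q (List.mem_cons_of_mem _ hq)
    simp only [ChevalleyDatum.stWord, List.map_cons, List.prod_cons, map_mul] at h ⊢
    rw [h, lift_stX _ (hw p List.mem_cons_self)]

theorem commWord_lt {r s : ℕ} (hr : r < 72) (hs : s < 72) (hne : s ≠ r) (hne' : s ≠ chevE6.neg r) (t u : F) :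
    ∀ p ∈ chevE6.commWord F r s t u, p.1 < 72 := by
  have hp := pair_ok r hr s hs
  simp only [chkPair, hne, hne', decide_false, Bool.false_or] at hp
  unfold commRhs at hp
  unfold ChevalleyDatum.commWord
  split at hp <;> rename_i m hm
  · split at hm <;> rename_i hc
    · simp [hc]
    · rename_i z C
      split at hm <;> rename_i hz
      · simp [hc, hz]
      · exact absurd hm (by simp)
    · exact absurd hm (by simp)
  · exact absurd hp (by simp)

theorem lift_stH {r : ℕ} (hr : r < 72) (t : F) :
    FreeGroup.lift (symMap (F := F)) (chevE6.stH r t) = hr' r t := by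
  rw [ChevalleyDatum.stH, lift_stWord]
  · simp [ChevalleyDatum.hWord, ChevalleyDatum.nWord, hr', mul_assoc]
  · simp [ChevalleyDatum.hWord, ChevalleyDatum.nWord, hr, (neg_ok r hr).1]

theorem lift_rels : ∀ g ∈ chevE6.steinbergRels F, FreeGroup.lift (symMap (F := F)) g = 1 := by
  rintro g ((⟨r, t₁, t₂, hr, rfl⟩ | ⟨r, s, t, u, hr, hs, hne, hne', rfl⟩) | ⟨r, t₁, t₂, hr, h1, h2, rfl⟩)
  · rw [map_mul, map_mul, map_inv, lift_stX r hr, lift_stX r hr, lift_stX r hr, xr_add, mul_inv_cancel]
  · simp only [map_mul, map_inv, lift_stX r hr, lift_stX s hs, lift_stWord _ (commWord_lt hr hs hne hne' t u)]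
    rw [xr_comm hr hs hne hne', mul_inv_cancel]
  · simp only [map_mul, map_inv, lift_stH hr]
    rw [hr'_mul hr h1 h2, mul_inv_cancel]

/-- The representation of Steinberg's group. -/
def rep : chevE6.SteinbergGroup F →* ((Fin 27 → F) ≃ₗ[F] (Fin 27 → F)) :=
  PresentedGroup.toGroup lift_rels

theorem rep_stGen {r : ℕ} (hr : r < 72) (t : F) : rep (chevE6.stGen F r t) = xr r t := lift_stX r hr t

theorem rep_range : (rep (F := F)).range = Subgroup.closure {g | ∃ r < 72, ∃ t : F, g = xr r t} := by
  rw [MonoidHom.range_eq_map, ← PresentedGroup.closure_range_of, MonoidHom.map_closure]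
  congr 1
  ext g
  constructor
  · rintro ⟨_, ⟨⟨r, t⟩, rfl⟩, rfl⟩
    exact ⟨r.val, r.isLt, t, PresentedGroup.toGroup.of _⟩
  · rintro ⟨r, hr, t, rfl⟩
    exact ⟨_, ⟨(⟨r, hr⟩, t), rfl⟩, PresentedGroup.toGroup.of _⟩

theorem xr_mem {r : ℕ} (hr : r < 72) (t : F) : xr r t ∈ (rep (F := F)).range :=
  ⟨_, rep_stGen hr t⟩

theorem hr'_mem {r : ℕ} (hr : r < 72) (t : F) : hr' r t ∈ (rep (F := F)).range :=
  ⟨PresentedGroup.mk _ (chevE6.stH r t), lift_stH hr t⟩

end CfsgLib.E6Cubic
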