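import Mathlib.Algebra.Module.Pi
import Mathlib.Algebra.BigOperators.Pi
import Mathlib.LinearAlgebra.Pi
import Mathlib.Tactic.Ring

/-!
Sparse integral matrices, acting on column vectors, with Boolean certificates for identities between them.
-/

set_option autoImplicit false

namespace CfsgLib.E6Cubic

variable {ι : Type*} [DecidableEq ι] {F : Type*} [CommRing F]

/-- An entry: source, target, coefficient. -/
abbrev Ent (ι : Type*) := ι × ι × ℤ

/-- The linear map with the listed entries. -/
def op (l : List (Ent ι)) : (ι → F) →ₗ[F] (ι → F) :=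
  (l.map fun e => (e.2.2 : F) • (LinearMap.single F (fun _ : ι => F) e.2.1).comp (LinearMap.proj e.1)).sum

theorem op_nil : (op ([] : List (Ent ι)) : (ι → F) →ₗ[F] (ι → F)) = 0 := rfl

theorem op_cons (e : Ent ι) (l : List (Ent ι)) (v : ι → F) :
    op (e :: l) v = Pi.single e.2.1 ((e.2.2 : F) * v e.1) + op l v := by
  simp [op, ← Pi.single_smul]

/-- The coefficient at a position. -/
def coef (l : List (Ent ι)) (i j : ι) : ℤ :=
  (l.map fun e => if e.1 = i ∧ e.2.1 = j then e.2.2 else 0).sum

theorem coef_cons (e : Ent ι) (l : List (Ent ι)) (i j : ι) :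
    coef (e :: l) i j = (if e.1 = i ∧ e.2.1 = j then e.2.2 else 0) + coef l i j := rfl

/-- Equality of coefficients. -/
def eqL (l l' : List (Ent ι)) : Bool :=
  (l ++ l').all fun e => decide (coef l e.1 e.2.1 = coef l' e.1 e.2.1)

theorem coef_eq_zero {l : List (Ent ι)} {i j : ι} (h : ∀ e ∈ l, ¬ (e.1 = i ∧ e.2.1 = j)) : coef l i j = 0 := by
  induction l with
  | nil => rfl
  | cons e l ih =>
    rw [coef_cons, if_neg (h e List.mem_cons_self), zero_add, ih fun e' he' => h e' (List.mem_cons_of_mem _ he')]

theorem op_apply [Fintype ι] (l : List (Ent ι)) (v : ι → F) (j : ι) :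
    op l v j = ∑ i, (coef l i j : F) * v i := by
  induction l with
  | nil => simp [op_nil, coef]
  | cons e l ih =>
    obtain ⟨a, b, s⟩ := e
    simp only [op_cons, Pi.add_apply, ih, coef_cons, Int.cast_add, add_mul, Finset.sum_add_distrib]
    congr 1
    by_cases hb : j = b
    · subst hb
      rw [Pi.single_eq_same, Finset.sum_eq_single a]
      · simp
      · intro i _ hi
        simp [Ne.symm hi]
      · simp
    · rw [Pi.single_eq_of_ne hb, Finset.sum_eq_zero]
      intro i _
      simp [show ¬ b = j from fun h => hb h.symm]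

theorem op_eq [Fintype ι] {l l' : List (Ent ι)} (h : eqL l l' = true) :
    (op l : (ι → F) →ₗ[F] (ι → F)) = op l' := by
  refine LinearMap.ext fun v => funext fun j => ?_
  rw [op_apply, op_apply]
  refine Finset.sum_congr rfl fun i _ => ?_
  congr 2
  by_cases hm : ∃ e ∈ l ++ l', e.1 = i ∧ e.2.1 = j
  · obtain ⟨e, he, rfl, rfl⟩ := hm
    exact of_decide_eq_true (List.all_eq_true.1 h e he)
  · push Not at hm
    rw [coef_eq_zero fun e he h' => hm e (List.mem_append_left _ he) h'.1 h'.2,
      coef_eq_zero fun e he h' => hm e (List.mem_append_right _ he) h'.1 h'.2]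

/-- The entries of a composite: first `l'`, then `l`. -/
def cmp (l l' : List (Ent ι)) : List (Ent ι) :=
  l'.flatMap fun e' => l.filterMap fun e => if e.1 = e'.2.1 then some (e'.1, e.2.1, e.2.2 * e'.2.2) else none

/-- The negative. -/
def scl (c : ℤ) (l : List (Ent ι)) : List (Ent ι) := l.map fun e => (e.1, e.2.1, c * e.2.2)

theorem op_append (l l' : List (Ent ι)) : (op (l ++ l') : (ι → F) →ₗ[F] (ι → F)) = op l + op l' := by
  simp [op, List.map_append, List.sum_append]

theorem op_scl (c : ℤ) (l : List (Ent ι)) : (op (scl c l) : (ι → F) →ₗ[F] (ι → F)) = (c : F) • op l := by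
  refine LinearMap.ext fun v => ?_
  induction l with
  | nil => simp [scl, op_nil]
  | cons e l ih =>
    simp only [scl, List.map_cons, op_cons, LinearMap.smul_apply, smul_add, ← Pi.single_smul, smul_eq_mul] at ih ⊢
    rw [ih]
    push_cast
    rw [mul_assoc]

theorem op_filterMap_single (l : List (Ent ι)) (a b : ι) (s : ℤ) (c : F) (v : ι → F) (hc : c = v a) :
    op l (Pi.single b ((s : F) * c)) =
      op (l.filterMap fun e => if e.1 = b then some (a, e.2.1, e.2.2 * s) else none) v := by
  induction l with
  | nil => simp [op_nil]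
  | cons e l ih =>
    rw [op_cons, ih]
    by_cases h : e.1 = b
    · rw [List.filterMap_cons_some (b := (a, e.2.1, e.2.2 * s)) (by simp [h]), op_cons, h, Pi.single_eq_same, hc]
      push_cast
      rw [mul_assoc]
    · rw [List.filterMap_cons_none (by simp [h]), Pi.single_eq_of_ne h, mul_zero, Pi.single_zero, zero_add]

theorem op_cmp (l l' : List (Ent ι)) :
    (op (cmp l l') : (ι → F) →ₗ[F] (ι → F)) = (op l).comp (op l') := by
  refine LinearMap.ext fun v => ?_
  induction l' with
  | nil => simp [cmp, op_nil]
  | cons e l' ih =>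
    obtain ⟨a, b, s⟩ := e
    simp only [cmp, List.flatMap_cons] at ih ⊢
    rw [op_append, LinearMap.add_apply, ih, LinearMap.comp_apply, LinearMap.comp_apply, op_cons, map_add,
      op_filterMap_single l a b s (v a) v rfl]

/-- A composite of sparse maps equals another. -/
theorem comp_eq [Fintype ι] {l l' m : List (Ent ι)} (h : eqL (cmp l l') m = true) (v : ι → F) :
    op l (op l' v) = op m v := by
  rw [← LinearMap.comp_apply, ← op_cmp, op_eq h]

end CfsgLib.E6Cubic
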