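import Cfsg.Agent.E6Cubic.Move

/-!
The stages of normalising an isometry by root elements: first six lines, then fifteen, then six.
-/

set_option autoImplicit false

namespace CfsgLib.E6Cubic

/-- The moves clearing all collinear points of a list. -/
def stepsOf (S : List (Fin 27)) (i : Fin 27) : List (Fin 27 × Fin 27) :=
  (S.filter fun j => decide (j ≠ i) && !ctr i j).map fun j => (i, j)

/-- The points of a list which stay after clearing. -/
def restOf (S : List (Fin 27)) (i : Fin 27) (steps : List (Fin 27 × Fin 27)) : List (Fin 27) :=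
  S.filter fun j => decide ((i, j) ∉ steps)

/-- The certificate of fixing one further line. -/
def stepCert (P : List (Fin 27)) (i : Fin 27) (S : List (Fin 27)) : Bool :=
  decide (i ∉ P) && reachOK P S i && clrOK P [(i, S)] [] (stepsOf S i) &&
    (restOf S i (stepsOf S i)).all fun m => decide (m = i) || qOK (restOf S i (stepsOf S i)) i m

/-- The certificate that a support reduces to a shorter list. -/
def baseCert (P : List (Fin 27)) (d : Fin 27 × List (Fin 27)) : Bool :=
  decide (d.1 ∉ P) && ((allowed (colP P d.1)).all fun m => decide (m = d.1) || decide (m ∈ P)) &&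
    (allowed (colP P d.1)).all fun m => decide (m ∈ d.2) || qOK (allowed (colP P d.1)) d.1 m

/-- The support left after clearing. -/
def restDom (dom : List (Fin 27 × List (Fin 27))) (steps : List (Fin 27 × Fin 27)) :
    List (Fin 27 × List (Fin 27)) := dom.map fun d => (d.1, restOf d.2 d.1 steps)

/-- The certificate of fixing many further lines at once. -/
def manyCert (P : List (Fin 27)) (dom : List (Fin 27 × List (Fin 27))) (steps : List (Fin 27 × Fin 27))
    (ks : List (Fin 27 × Fin 27 × Fin 27)) : Bool :=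
  (dom.all fun d => baseCert P d) && clrOK P dom [] steps &&
    (ks.all fun k => !ctr k.1 k.2.1 &&
      (restDom dom steps).any fun du => decide (du.1 = k.1) &&
        (restDom dom steps).any fun dv => decide (dv.1 = k.2.1) && relOK du.2 dv.2 k.1 k.2.2) &&
    (restDom dom steps).all fun d => d.2.all fun m => decide (m = d.1) || decide (∃ u, (u, d.1, m) ∈ ks)

variable {F : Type*} [Field F]

theorem supp_rest {g : (Fin 27 → F) ≃ₗ[F] (Fin 27 → F)} {i : Fin 27} {S : List (Fin 27)}
    {steps : List (Fin 27 × Fin 27)} (hS : Supp g i S) (hz : ∀ p ∈ steps, g (bv p.1) p.2 = 0) :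
    Supp g i (restOf S i steps) := by
  intro j hj
  simp only [restOf, List.mem_filter, decide_eq_true_eq, not_and, not_not] at hj
  by_cases h : j ∈ S
  · exact hz _ (hj h)
  · exact hS j h

variable [Fintype F] (h3 : 3 ≤ Fintype.card F)
include h3

theorem extend {P : List (Fin 27)} {i : Fin 27} {S : List (Fin 27)} (hc : stepCert P i S = true)
    (hS : ∀ g ∈ Isom F, Fix g P → Supp g i S) {g : (Fin 27 → F) ≃ₗ[F] (Fin 27 → F)} (hg : g ∈ Isom F)
    (hP : Fix g P) : ∃ h ∈ (rep (F := F)).range, Fix (h * g) (P ++ [i]) := by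
  simp only [stepCert, Bool.and_eq_true, decide_eq_true_eq, List.all_eq_true, Bool.or_eq_true] at hc
  obtain ⟨⟨⟨hi, hreach⟩, hclr⟩, hrest⟩ := hc
  obtain ⟨a, ha, hfix, hne⟩ := reach hreach hP hi (hS g hg hP)
  have hag : a * g ∈ Isom F := mul_mem (range_rep_le ha) hg
  have hgood : Good (a * g) P [(i, S)] := ⟨hfix, by simpa using ⟨hS _ hag hfix, hne⟩⟩
  obtain ⟨b, hb, ⟨hfix', hdom⟩, hz⟩ := clear P [(i, S)] (stepsOf S i) [] (a * g) hclr hgood (by simp)
  rw [List.nil_append] at hz
  obtain ⟨hS', hne'⟩ := hdom (i, S) List.mem_cons_self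
  have hR := supp_rest hS' hz
  refine ⟨b * a, mul_mem hb ha, ?_⟩
  rw [mul_assoc]
  intro s hs j hj
  rcases List.mem_append.1 hs with hs | hs
  · exact hfix' s hs j hj
  rw [List.mem_singleton] at hs
  subst hs
  by_cases hjR : j ∈ restOf S s (stepsOf S s)
  · rcases hrest j hjR with h | h
    · exact absurd h hj
    · exact quadKill h hR hne' (qua_bv_image h3 (mul_mem (range_rep_le hb) hag) s)
  · exact hR j hjR

theorem base {P : List (Fin 27)} {d : Fin 27 × List (Fin 27)} (hc : baseCert P d = true)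
    {g : (Fin 27 → F) ≃ₗ[F] (Fin 27 → F)} (hg : g ∈ Isom F) (hP : Fix g P) :
    Supp g d.1 d.2 ∧ g (bv d.1) d.1 ≠ 0 := by
  simp only [baseCert, Bool.and_eq_true, decide_eq_true_eq, List.all_eq_true, Bool.or_eq_true] at hc
  obtain ⟨⟨hi, hA⟩, hS⟩ := hc
  have hsupp := supp_allowed h3 hg hP d.1
  have hne : g (bv d.1) d.1 ≠ 0 := by
    obtain ⟨m, hm, hmP, hm0⟩ := hsupp.exists_coord hP hi
    rcases hA m hm with h | h
    · rwa [h] at hm0
    · exact absurd h hmP
  refine ⟨fun j hj => ?_, hne⟩
  by_cases hjA : j ∈ allowed (colP P d.1)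
  · rcases hS j hjA with h | h
    · exact absurd h hj
    · exact quadKill h hsupp hne (qua_bv_image h3 hg d.1)
  · exact hsupp j hjA

theorem extendMany {P : List (Fin 27)} {dom : List (Fin 27 × List (Fin 27))} {steps : List (Fin 27 × Fin 27)}
    {ks : List (Fin 27 × Fin 27 × Fin 27)} (hc : manyCert P dom steps ks = true)
    {g : (Fin 27 → F) ≃ₗ[F] (Fin 27 → F)} (hg : g ∈ Isom F) (hP : Fix g P) :
    ∃ h ∈ (rep (F := F)).range, Fix (h * g) (P ++ dom.map Prod.fst) := by
  simp only [manyCert, Bool.and_eq_true, Bool.not_eq_true', List.all_eq_true, List.any_eq_true, decide_eq_true_eq,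
    Bool.or_eq_true] at hc
  obtain ⟨⟨⟨hbase, hclr⟩, hks⟩, hrest⟩ := hc
  have hgood : Good g P dom := ⟨hP, fun d hd => base h3 (hbase d hd) hg hP⟩
  obtain ⟨b, hb, ⟨hfix, hdom⟩, hz⟩ := clear P dom steps [] g hclr hgood (by simp)
  rw [List.nil_append] at hz
  have hbg : b * g ∈ Isom F := mul_mem (range_rep_le hb) hg
  have hR : ∀ d ∈ restDom dom steps, Supp (b * g) d.1 d.2 ∧ (b * g) (bv d.1) d.1 ≠ 0 := by
    intro d hd
    obtain ⟨d', hd', rfl⟩ := List.mem_map.1 hd
    exact ⟨supp_rest (hdom d' hd').1 hz, (hdom d' hd').2⟩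
  refine ⟨b, hb, fun s hs j hj => ?_⟩
  rcases List.mem_append.1 hs with hs | hs
  · exact hfix s hs j hj
  obtain ⟨d, hd, rfl⟩ := List.mem_map.1 hs
  have hdR : (d.1, restOf d.2 d.1 steps) ∈ restDom dom steps := List.mem_map.2 ⟨d, hd, rfl⟩
  by_cases hjR : j ∈ restOf d.2 d.1 steps
  · rcases hrest _ hdR j hjR with h | ⟨u, hu⟩
    · exact absurd h hj
    · obtain ⟨hctr, du, hdu, hu1, dv, hdv, hv1, hrel⟩ := hks _ hu
      have h1 := hR du hdu
      have h2 := hR dv hdv
      rw [hu1] at h1
      rw [hv1] at h2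
      exact relKill hrel h1.1 h2.1 h1.2 (tln_bv_image h3 hbg hctr)
  · exact (hR _ hdR).1 j hjR

end CfsgLib.E6Cubic
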