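import Cfsg.Agent.E6Cubic.Normal

/-!
Diagonal isometries are products of torus elements; so the isometries are exactly the image of Steinberg's group.
-/

set_option autoImplicit false

namespace CfsgLib.E6Cubic

/-- The point is a target of the root vector. -/
def tgtB (r : ℕ) (k : Fin 27) : Bool := (ents r).any fun e => decide (e.2.1 = k)

/-- The point is a source of the root vector. -/
def srcB (r : ℕ) (k : Fin 27) : Bool := (ents r).any fun e => decide (e.1 = k)

set_option maxRecDepth 20000 in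
theorem disj_ok : ∀ r < 72, ∀ k : Fin 27, ¬ (tgtB r k = true ∧ srcB r k = true) := by decide +kernel

theorem tri_nodup : tri.Nodup := by decide +kernel

theorem tri_unique : ∀ t ∈ tri, ∀ t' ∈ tri, t' ≠ t →
    t'.1 ∉ [t.1, t.2.1, t.2.2.1] ∨ t'.2.1 ∉ [t.1, t.2.1, t.2.2.1] ∨ t'.2.2.1 ∉ [t.1, t.2.1, t.2.2.1] := by
  decide +kernel

/-- Add the third points of monomials with two known ones. -/
def spread (known : List (Fin 27)) : List (Fin 27) :=
  known ++ tri.flatMap fun t =>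
    (if t.1 ∈ known ∧ t.2.1 ∈ known then [t.2.2.1] else []) ++
      (if t.1 ∈ known ∧ t.2.2.1 ∈ known then [t.2.1] else []) ++
        (if t.2.1 ∈ known ∧ t.2.2.1 ∈ known then [t.1] else [])

/-- One round, without repetitions. -/
def spreadOnce (known : List (Fin 27)) : List (Fin 27) :=
  (List.finRange 27).filter fun k => decide (k ∈ spread known)

/-- The rounds needed to reach every point. -/
def spreadAll : ℕ → List (Fin 27) → List (Fin 27)
  | 0, known => known
  | n + 1, known => spreadAll n (spreadOnce known)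

set_option maxRecDepth 20000 in
theorem spread_ok : ∀ j : Fin 27, j ∈ spreadAll 6 [0, 1, 2, 19, 22, 3] := by decide +kernel

theorem torus_ok :
    (tgtB 71 0 = true ∧ tgtB 71 3 = false ∧ srcB 71 3 = false) ∧
    (tgtB 15 0 = false ∧ srcB 15 0 = true ∧ tgtB 15 3 = false ∧ srcB 15 3 = true) ∧
    (tgtB 29 0 = false ∧ srcB 29 0 = false ∧ tgtB 29 3 = false ∧ srcB 29 3 = false ∧
      tgtB 29 1 = false ∧ srcB 29 1 = true) ∧
    (tgtB 22 0 = false ∧ srcB 22 0 = false ∧ tgtB 22 3 = false ∧ srcB 22 3 = false ∧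
      tgtB 22 1 = false ∧ srcB 22 1 = false ∧ tgtB 22 2 = false ∧ srcB 22 2 = true) ∧
    (tgtB 36 0 = false ∧ srcB 36 0 = false ∧ tgtB 36 3 = false ∧ srcB 36 3 = false ∧
      tgtB 36 1 = false ∧ srcB 36 1 = false ∧ tgtB 36 2 = false ∧ srcB 36 2 = false ∧
      tgtB 36 19 = false ∧ srcB 36 19 = true) ∧
    (tgtB 37 0 = false ∧ srcB 37 0 = false ∧ tgtB 37 3 = false ∧ srcB 37 3 = false ∧
      tgtB 37 1 = false ∧ srcB 37 1 = false ∧ tgtB 37 2 = false ∧ srcB 37 2 = false ∧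
      tgtB 37 19 = false ∧ srcB 37 19 = false ∧ tgtB 37 22 = false ∧ srcB 37 22 = true) := by decide +kernel

variable {F : Type*} [Field F]

/-- The character of a torus element. -/
def chi (r : ℕ) (t : F) (k : Fin 27) : F := if tgtB r k then t else if srcB r k then t⁻¹ else 1

theorem op_op_tgt {r : ℕ} (hr : r < 72) (v : Fin 27 → F) (k : Fin 27) :
    op (ents r) (op (ents (Cfsg.Lie.chevE6.neg r)) v) k = if tgtB r k then v k else 0 := by
  split_ifs with h
  · simp only [tgtB, List.any_eq_true, decide_eq_true_eq] at h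
    obtain ⟨e, he, rfl⟩ := h
    obtain ⟨-, hsq, hrev, -⟩ := ents_ok r hr e he
    have h2 := op_entry (neg_ok r hr).1 hrev v
    rw [op_entry hr he, h2, ← mul_assoc, ← Int.cast_mul, hsq, Int.cast_one, one_mul]
  · refine op_zero_at _ _ _ fun e he hk => absurd ?_ h
    simp only [tgtB, List.any_eq_true, decide_eq_true_eq]
    exact ⟨e, he, hk⟩

theorem tgt_neg {r : ℕ} (hr : r < 72) (k : Fin 27) : tgtB (Cfsg.Lie.chevE6.neg r) k = srcB r k := by
  obtain ⟨hn, hnn, -⟩ := neg_ok r hr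
  rw [Bool.eq_iff_iff]
  simp only [tgtB, srcB, List.any_eq_true, decide_eq_true_eq]
  constructor
  · rintro ⟨e, he, rfl⟩
    obtain ⟨-, -, hrev, -⟩ := ents_ok _ hn e he
    rw [hnn] at hrev
    exact ⟨_, hrev, rfl⟩
  · rintro ⟨e, he, rfl⟩
    exact ⟨_, (ents_ok r hr e he).2.2.1, rfl⟩

theorem hr'_diag {r : ℕ} (hr : r < 72) {t : F} (ht : t ≠ 0) (v : Fin 27 → F) (k : Fin 27) :
    hr' r t v k = chi r t k * v k := by
  obtain ⟨hn, hnn, -⟩ := neg_ok r hr
  have h2 := op_op_tgt hn v k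
  rw [hnn, tgt_neg hr] at h2
  rw [hr'_apply hr ht, Pi.add_apply, Pi.add_apply, Pi.smul_apply, Pi.smul_apply, op_op_tgt hr, h2]
  have := disj_ok r hr k
  simp only [chi, smul_eq_mul]
  split_ifs <;> simp_all <;> ring

/-- A map acts by the given factors. -/
def IsDiag (g : (Fin 27 → F) ≃ₗ[F] (Fin 27 → F)) (l : Fin 27 → F) : Prop := ∀ v k, g v k = l k * v k

theorem IsDiag.torus {g : (Fin 27 → F) ≃ₗ[F] (Fin 27 → F)} {l : Fin 27 → F} (h : IsDiag g l) {r : ℕ} (hr : r < 72)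
    {t : F} (ht : t ≠ 0) : IsDiag (hr' r t * g) fun k => chi r t k * l k := fun v k => by
  rw [LinearEquiv.mul_apply, hr'_diag hr ht, h, mul_assoc]

theorem IsDiag.ne_zero {g : (Fin 27 → F) ≃ₗ[F] (Fin 27 → F)} {l : Fin 27 → F} (h : IsDiag g l) (k : Fin 27) :
    l k ≠ 0 := fun h0 => by
  have := h (g.symm (bv k)) k
  rw [g.apply_symm_apply, bv_same, h0, zero_mul] at this
  exact one_ne_zero this

theorem IsDiag.mon {g : (Fin 27 → F) ≃ₗ[F] (Fin 27 → F)} {l : Fin 27 → F} (h : IsDiag g l) (hg : g ∈ Isom F)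
    {t : Mon} (ht : t ∈ tri) : l t.1 * l t.2.1 * l t.2.2.1 = 1 := by
  set v : Fin 27 → F := bv t.1 + bv t.2.1 + bv t.2.2.1 with hv
  have hzero : ∀ j, j ∉ [t.1, t.2.1, t.2.2.1] → v j = 0 := by
    intro j hj
    simp only [List.mem_cons, List.not_mem_nil, or_false, not_or] at hj
    simp [hv, bv_ne hj.1, bv_ne hj.2.1, bv_ne hj.2.2]
  have key : ∀ w : Fin 27 → F, (∀ j, j ∉ [t.1, t.2.1, t.2.2.1] → w j = 0) → cub w = mT t w := by
    intro w hw
    refine sum_eq_one_of _ tri_nodup _ _ ht fun t' ht' hne => ?_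
    simp only [mT]
    rcases tri_unique t ht t' ht' hne with h | h | h <;> simp [hw _ h]
  obtain ⟨h1, h2, h3⟩ := tri_ok t ht
  have hcub := hg v
  rw [key v hzero, key (g v) (fun j hj => by rw [h, hzero j hj, mul_zero])] at hcub
  have hs : ((t.2.2.2 : ℤ) : F) ≠ 0 := by
    have : ∀ t ∈ tri, t.2.2.2 * t.2.2.2 = 1 := by decide +kernel
    intro h0
    have := congrArg (fun k : ℤ => (k : F)) (this t ht)
    simp [h0] at this
  have hv1 : v t.1 = 1 := by simp [hv, bv_same, bv_ne h1, bv_ne h2]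
  have hv2 : v t.2.1 = 1 := by simp [hv, bv_same, bv_ne h1.symm, bv_ne h3]
  have hv3 : v t.2.2.1 = 1 := by simp [hv, bv_same, bv_ne h2.symm, bv_ne h3.symm]
  simpa [mT, h v, hv1, hv2, hv3, hs] using hcub

theorem IsDiag.spread_one {g : (Fin 27 → F) ≃ₗ[F] (Fin 27 → F)} {l : Fin 27 → F} (h : IsDiag g l) (hg : g ∈ Isom F) :
    ∀ (n : ℕ) (known : List (Fin 27)), (∀ j ∈ known, l j = 1) → ∀ j ∈ spreadAll n known, l j = 1 := by
  intro n
  induction n with
  | zero => intro known hk j hj; exact hk j hj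
  | succ n ih =>
    intro known hk
    refine ih _ fun j hj => ?_
    simp only [spreadOnce, spread, List.mem_filter, List.mem_finRange, true_and, decide_eq_true_eq, List.mem_append,
      List.mem_flatMap] at hj
    rcases hj with hj | ⟨t, ht, (hj | hj) | hj⟩
    · exact hk j hj
    all_goals
      have hm := h.mon hg ht
      split_ifs at hj with hc
      · rw [List.mem_singleton] at hj
        subst hj
        rw [hk _ hc.1, hk _ hc.2] at hm
        simpa using hm
      · simp at hj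

theorem IsDiag.step {g : (Fin 27 → F) ≃ₗ[F] (Fin 27 → F)} {l : Fin 27 → F} (hg : g ∈ Isom F) (h : IsDiag g l)
    {r : ℕ} (hr : r < 72) {t : F} (ht : t ≠ 0) : ∃ g' : (Fin 27 → F) ≃ₗ[F] (Fin 27 → F), ∃ l' : Fin 27 → F,
      g' ∈ Isom F ∧ IsDiag g' l' ∧ (∀ k, l' k = chi r t k * l k) ∧
        (g' ∈ (rep (F := F)).range → g ∈ (rep (F := F)).range) :=
  ⟨_, _, mul_mem (range_rep_le (hr'_mem hr t)) hg, h.torus hr ht, fun _ => rfl,
    (Subgroup.mul_mem_cancel_left _ (hr'_mem hr t)).1⟩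

theorem diag_mem_range {g : (Fin 27 → F) ≃ₗ[F] (Fin 27 → F)} (hg : g ∈ Isom F) {l : Fin 27 → F} (h : IsDiag g l) :
    g ∈ (rep (F := F)).range := by
  obtain ⟨⟨a0, a3, a3'⟩, ⟨b0, b0', b3, b3'⟩, ⟨c0, c0', c3, c3', c1, c1'⟩, ⟨d0, d0', d3, d3', d1, d1', d2, d2'⟩,
    ⟨e0, e0', e3, e3', e1, e1', e2, e2', e4, e4'⟩,
    ⟨f0, f0', f3, f3', f1, f1', f2, f2', f4, f4', f5, f5'⟩⟩ := torus_ok
  obtain ⟨g1, l1, hg1, h1, e₁, back1⟩ :=
    h.step hg (r := 71) (by norm_num) (div_ne_zero (h.ne_zero 3) (h.ne_zero 0))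
  obtain ⟨g2, l2, hg2, h2, e₂, back2⟩ := h1.step hg1 (r := 15) (by norm_num) (h1.ne_zero 0)
  obtain ⟨g3, l3, hg3, h3, e₃, back3⟩ := h2.step hg2 (r := 29) (by norm_num) (h2.ne_zero 1)
  obtain ⟨g4, l4, hg4, h4, e₄, back4⟩ := h3.step hg3 (r := 22) (by norm_num) (h3.ne_zero 2)
  obtain ⟨g5, l5, hg5, h5, e₅, back5⟩ := h4.step hg4 (r := 36) (by norm_num) (h4.ne_zero 19)
  obtain ⟨g6, l6, hg6, h6, e₆, back6⟩ := h5.step hg5 (r := 37) (by norm_num) (h5.ne_zero 22)
  refine back1 (back2 (back3 (back4 (back5 (back6 ?_)))))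
  have i10 : l1 0 = l 3 := by
    rw [e₁, chi, a0, if_pos rfl, div_mul_cancel₀ _ (h.ne_zero 0)]
  have i13 : l1 3 = l 3 := by simp [e₁, chi, a3, a3']
  have i20 : l2 0 = 1 := by simp [e₂, chi, b0, b0', h1.ne_zero 0]
  have i23 : l2 3 = 1 := by simp [e₂, chi, b3, b3', i13, i10, h.ne_zero 3]
  have i30 : l3 0 = 1 := by simp [e₃, chi, c0, c0', i20]
  have i33 : l3 3 = 1 := by simp [e₃, chi, c3, c3', i23]
  have i31 : l3 1 = 1 := by simp [e₃, chi, c1, c1', h2.ne_zero 1]
  have i40 : l4 0 = 1 := by simp [e₄, chi, d0, d0', i30]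
  have i43 : l4 3 = 1 := by simp [e₄, chi, d3, d3', i33]
  have i41 : l4 1 = 1 := by simp [e₄, chi, d1, d1', i31]
  have i42 : l4 2 = 1 := by simp [e₄, chi, d2, d2', h3.ne_zero 2]
  have i50 : l5 0 = 1 := by simp [e₅, chi, e0, e0', i40]
  have i53 : l5 3 = 1 := by simp [e₅, chi, e3, e3', i43]
  have i51 : l5 1 = 1 := by simp [e₅, chi, e1, e1', i41]
  have i52 : l5 2 = 1 := by simp [e₅, chi, e2, e2', i42]
  have i54 : l5 19 = 1 := by simp [e₅, chi, e4, e4', h4.ne_zero 19]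
  have hone : g6 = 1 := by
    refine LinearEquiv.ext fun v => funext fun k => ?_
    rw [h6 v k, h6.spread_one hg6 6 [0, 1, 2, 19, 22, 3] ?_ k (spread_ok k), one_mul, LinearEquiv.coe_one, id_eq]
    simp only [List.mem_cons, List.not_mem_nil, or_false, forall_eq_or_imp, forall_eq]
    exact ⟨by simp [e₆, chi, f0, f0', i50], by simp [e₆, chi, f1, f1', i51], by simp [e₆, chi, f2, f2', i52],
      by simp [e₆, chi, f4, f4', i54], by simp [e₆, chi, f5, f5', h5.ne_zero 22],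
      by simp [e₆, chi, f3, f3', i53]⟩
  rw [hone]
  exact one_mem _

variable [Fintype F] (h3 : 3 ≤ Fintype.card F)
include h3

theorem isom_eq_range : Isom F = (rep (F := F)).range := by
  refine le_antisymm (fun g hg => ?_) range_rep_le
  obtain ⟨a, ha, hfix⟩ := exists_fix_all h3 hg
  have hdiag : IsDiag (a * g) fun k => (a * g) (bv k) k := fun v k => by
    have hv : v = ∑ j, v j • bv j := by
      funext i
      simp [bv, Finset.sum_apply, Pi.single_apply]
    conv_lhs => rw [hv]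
    rw [map_sum, Finset.sum_apply, Finset.sum_eq_single k]
    · rw [map_smul, Pi.smul_apply, smul_eq_mul, mul_comm]
    · intro j _ hj
      rw [map_smul, Pi.smul_apply, hfix j k hj.symm, smul_zero]
    · simp
  exact (Subgroup.mul_mem_cancel_left _ ha).1 (diag_mem_range (mul_mem (range_rep_le ha) hg) hdiag)

end CfsgLib.E6Cubic
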