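import Cfsg.Agent.E6Cubic.Torus
import Cfsg.Prelude.Def_E6

/-!
The group of the cubic form on triples of 3 × 3 matrices is the group of isometries on 27 coordinates.
-/

set_option autoImplicit false

namespace CfsgLib.E6Cubic

open Cfsg.Lie
open scoped Matrix

/-- Numbering of the 27 coordinates. -/
def idx : I27 ≃ Fin 27 where
  toFun p := ⟨9 * p.1.val + 3 * p.2.1.val + p.2.2.val, by omega⟩
  invFun n := (⟨n.val / 9, by omega⟩, ⟨n.val % 9 / 3, by omega⟩, ⟨n.val % 3, by omega⟩)
  left_inv := by decide +kernel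
  right_inv := by decide +kernel

variable {F : Type*} [Field F]

theorem cubicT_eq (v : I27 → F) : cubicT v = cub (v ∘ idx.symm) := by
  simp only [cubicT, mat3, Matrix.det_fin_three, Matrix.trace_fin_three, Matrix.mul_apply, Fin.sum_univ_three,
    Matrix.of_apply, cub, tri, List.map_cons, List.map_nil, List.sum_cons, List.sum_nil, mT, Function.comp_apply]
  simp only [idx, Equiv.coe_fn_symm_mk, Fin.isValue]
  norm_num [show ∀ h, (⟨2, h⟩ : Fin 3) = 2 from fun _ => rfl]
  ring

/-- Matrices as linear maps on 27 coordinates. -/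
noncomputable def toV : GL I27 F ≃* ((Fin 27 → F) ≃ₗ[F] (Fin 27 → F)) :=
  (Matrix.GeneralLinearGroup.toLin.trans (LinearMap.GeneralLinearGroup.generalLinearEquiv F (I27 → F))).trans
    { toFun := fun g => ((LinearEquiv.funCongrLeft F F idx).trans g).trans (LinearEquiv.funCongrLeft F F idx.symm)
      invFun := fun g => ((LinearEquiv.funCongrLeft F F idx.symm).trans g).trans (LinearEquiv.funCongrLeft F F idx)
      left_inv := fun g => LinearEquiv.ext fun v => by
        simp [LinearEquiv.funCongrLeft_apply, LinearMap.funLeft, Function.comp_assoc]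
      right_inv := fun g => LinearEquiv.ext fun v => by
        simp [LinearEquiv.funCongrLeft_apply, LinearMap.funLeft, Function.comp_assoc]
      map_mul' := fun g h => LinearEquiv.ext fun v => by
        simp [LinearEquiv.funCongrLeft_apply, LinearMap.funLeft, Function.comp_assoc] }

theorem toV_apply (g : GL I27 F) (v : Fin 27 → F) :
    toV g v = ((g : Matrix I27 I27 F) *ᵥ (v ∘ idx)) ∘ idx.symm := rfl

theorem toV_mem_Isom (g : GL I27 F) : toV g ∈ Isom F ↔ g ∈ E6univ F := by
  have h : ∀ v : I27 → F, cub (toV g (v ∘ idx.symm)) = cubicT ((g : Matrix I27 I27 F) *ᵥ v) := fun v => by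
    rw [toV_apply, cubicT_eq, Function.comp_assoc, Equiv.symm_comp_self, Function.comp_id]
  constructor
  · intro hg v
    rw [cubicT_eq v, ← hg (v ∘ idx.symm), h v]
    rfl
  · intro hg w
    have hw : (w ∘ idx) ∘ idx.symm = w := by rw [Function.comp_assoc, Equiv.self_comp_symm, Function.comp_id]
    have h1 : cubicT ((g : Matrix I27 I27 F) *ᵥ (w ∘ idx)) = cubicT (w ∘ idx) := hg (w ∘ idx)
    rw [← h, hw, cubicT_eq, hw] at h1
    exact h1

variable [Fintype F] (h3 : 3 ≤ Fintype.card F)
include h3

/-- The representation maps onto the group of the cubic form. -/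
theorem exists_onto : ∃ ψ : chevE6.SteinbergGroup F →* ↥(E6univ F), Function.Surjective ψ ∧
    ψ (chevE6.stGen F 0 1) * ψ (chevE6.stGen F 71 1) ≠ ψ (chevE6.stGen F 71 1) * ψ (chevE6.stGen F 0 1) := by
  have hmem : ∀ s, toV.symm (rep (F := F) s) ∈ E6univ F := fun s => by
    rw [← toV_mem_Isom, MulEquiv.apply_symm_apply, isom_eq_range h3]
    exact ⟨s, rfl⟩
  refine ⟨(toV.symm.toMonoidHom.comp rep).codRestrict _ hmem, fun g => ?_, fun he => ?_⟩
  · obtain ⟨s, hs⟩ : toV g.1 ∈ (rep (F := F)).range := isom_eq_range h3 ▸ (toV_mem_Isom g.1).2 g.2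
    exact ⟨s, Subtype.ext (by simp [hs])⟩
  · have h' : rep (chevE6.stGen F 0 (1 : F)) * rep (chevE6.stGen F 71 (1 : F)) =
        rep (chevE6.stGen F 71 (1 : F)) * rep (chevE6.stGen F 0 (1 : F)) := by
      have := congrArg (fun x : ↥(E6univ F) => toV x.1) he
      simpa [map_mul] using this
    rw [rep_stGen (by norm_num), rep_stGen (by norm_num)] at h'
    have h'' := congrFun (LinearEquiv.congr_fun h' (bv 6)) 6
    have n0 : chevE6.neg 0 = 71 ∧ chevE6.neg 71 = 0 ∧ tgtB 0 6 = true ∧ tgtB 71 6 = false := by decide +kernel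
    have hA := op_op_tgt (F := F) (r := 0) (by norm_num) (bv 6) 6
    have hB := op_op_tgt (F := F) (r := 71) (by norm_num) (bv 6) 6
    rw [n0.1, n0.2.2.1, if_pos rfl, bv_same] at hA
    rw [n0.2.1, n0.2.2.2, if_neg Bool.false_ne_true] at hB
    simp [LinearEquiv.mul_apply, map_add, Pi.add_apply, hA, hB] at h''
    all_goals
      have := h''
      simp [add_comm, add_left_comm, add_assoc] at this

end CfsgLib.E6Cubic
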